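import Groth.Agent.CycNorm.Ring
import Groth.Agent.RootCover.Main
import Groth.Agent.RootCover.Uniformizer
import Mathlib.RingTheory.RegularLocalRing.Defs
import Mathlib.RingTheory.IntegralClosure.Algebra.Basic

/-! Normalised root covers along a regular divisor. -/

set_option autoImplicit false
set_option linter.style.haveILetI false
set_option maxHeartbeats 1000000
set_option synthInstance.maxHeartbeats 200000

universe u

open Polynomial

noncomputable section

namespace Groth.Agent.CycNorm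

/-- A normal ring is integrally closed in its localisations at nonzerodivisors. -/
theorem mem_range_of_isIntegral {S T : Type u} [CommRing S] [CommRing T] [Algebra S T] (g : S)
    [IsLocalization.Away g T] (hg : ∀ s : S, g * s = 0 → s = 0)
    (hnorm : ∀ (Q : Ideal S) [Q.IsMaximal],
      IsDomain (Localization.AtPrime Q) ∧ IsIntegrallyClosed (Localization.AtPrime Q))
    {x : T} (hx : IsIntegral S x) : x ∈ (algebraMap S T).range := by
  have hinj : Function.Injective (algebraMap S T) := by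
    refine IsLocalization.injective (M := Submonoid.powers g) T (Submonoid.powers_le.2 ?_)
    exact mem_nonZeroDivisors_iff_right.2 fun s hs => hg s (by rwa [mul_comm] at hs)
  have hu : IsUnit (algebraMap S T g) := IsLocalization.Away.algebraMap_isUnit g
  let S' := integralClosure S T
  have hb := bijective_of_normal (algebraMap S S') g hg
    (fun s hs => Subtype.ext (hu.mul_right_eq_zero.1 (congrArg Subtype.val hs)))
    (fun s => Algebra.IsIntegral.isIntegral s)
    (fun s => by
      obtain ⟨m, r, hr⟩ := IsLocalization.Away.surj g (s : T)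
      exact ⟨m, r, Subtype.ext (by
        show algebraMap S T r = algebraMap S T g ^ m * (s : T)
        rw [← hr, mul_comm])⟩)
    (fun r hr => ⟨0, by rw [pow_zero, one_mul]; exact hinj ((congrArg Subtype.val hr).trans (map_zero _).symm)⟩)
    hnorm
  obtain ⟨r, hr⟩ := hb.2 ⟨x, hx⟩
  exact ⟨r, congrArg Subtype.val hr⟩

variable {B : Type u} [CommRing B] [IsDomain B]

/-- The cover data of `t ^ N = u f ^ α` inside a localisation. -/
theorem exists_data (N : ℕ) (hN : 0 < N) (u : Bˣ) (α : ℕ) (f₁ : B) (hf₁ : f₁ ≠ 0)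
    (g : B) (hg : g = (u : B) * f₁ ^ α) (K : Type u) [CommRing K] [Algebra B K]
    [Algebra (AdjoinRoot (X ^ N - C g : B[X])) K] [IsScalarTower B (AdjoinRoot (X ^ N - C g : B[X])) K]
    [IsLocalization.Away (algebraMap B (AdjoinRoot (X ^ N - C g : B[X])) f₁) K] :
    ∃ c : RootCover.Data B K, c.N = N ∧ c.α = α ∧ c.f = f₁ ∧
      (∀ r, algebraMap (AdjoinRoot (X ^ N - C g : B[X])) K r ∈ c.A) := by
  let p : B[X] := X ^ N - C g
  let R := AdjoinRoot p
  have hp : p.Monic := monic_X_pow_sub_C _ hN.ne'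
  have hdeg : p.natDegree = N := natDegree_X_pow_sub_C
  let pb := AdjoinRoot.powerBasis' hp
  haveI : Module.Free B R := Module.Free.of_basis pb.basis
  have hinj : Function.Injective (algebraMap R K) := by
    refine IsLocalization.injective (M := Submonoid.powers (algebraMap B R f₁)) K ?_
    refine Submonoid.powers_le.2 (mem_nonZeroDivisors_iff_right.2 fun z hz => ?_)
    rw [mul_comm, ← Algebra.smul_def] at hz
    exact (smul_eq_zero.1 hz).resolve_left hf₁
  have ht : algebraMap R K (AdjoinRoot.root p) ^ N = algebraMap B K ((u : B) * f₁ ^ α) := by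
    have h : aeval (AdjoinRoot.root p) p = 0 := by rw [AdjoinRoot.aeval_eq, AdjoinRoot.mk_self]
    conv at h => lhs; arg 2; simp only [p]
    rw [map_sub, map_pow, aeval_X, aeval_C, sub_eq_zero] at h
    rw [← map_pow, h, ← IsScalarTower.algebraMap_apply, hg]
  let c : RootCover.Data B K :=
    { N := N, hN := hN, α := α, u := u, f := f₁, t := algebraMap R K (AdjoinRoot.root p)
      g := IsLocalization.Away.invSelf (S := K) (algebraMap B R f₁)
      hg := by rw [IsScalarTower.algebraMap_apply B R K, IsLocalization.Away.mul_invSelf]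
      ht := ht
      hli := by
        have h := pb.basis.linearIndependent.map' (IsScalarTower.toAlgHom B R K).toLinearMap
          (LinearMap.ker_eq_bot.2 hinj)
        have hd : pb.dim = N := (AdjoinRoot.powerBasis'_dim hp).trans hdeg
        have := h.comp (Fin.cast hd.symm) (Fin.cast_injective _)
        refine (linearIndependent_equiv' (Equiv.refl _) ?_).1 this
        funext i
        simp [Function.comp_def, pb.coe_basis, pb, AdjoinRoot.powerBasis'_gen]
        rfl
      hspan := fun x => by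
        obtain ⟨m, r, hr⟩ := IsLocalization.Away.surj (algebraMap B R f₁) x
        refine ⟨m, ?_⟩
        rw [IsScalarTower.algebraMap_apply B R K, hr]
        have : r ∈ Algebra.adjoin B ({AdjoinRoot.root p} : Set R) := AdjoinRoot.adjoinRoot_eq_top (f := p) ▸ Algebra.mem_top
        have h2 := (Subalgebra.mem_map.2 ⟨r, this, rfl⟩ :
          IsScalarTower.toAlgHom B R K r ∈ (Algebra.adjoin B {AdjoinRoot.root p}).map (IsScalarTower.toAlgHom B R K))
        rwa [AlgHom.map_adjoin, Set.image_singleton] at h2 }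
  refine ⟨c, rfl, rfl, rfl, fun r => ?_⟩
  have : r ∈ Algebra.adjoin B ({AdjoinRoot.root p} : Set R) := AdjoinRoot.adjoinRoot_eq_top (f := p) ▸ Algebra.mem_top
  have h2 : IsScalarTower.toAlgHom B R K r ∈ (Algebra.adjoin B {AdjoinRoot.root p}).map (IsScalarTower.toAlgHom B R K) :=
    Subalgebra.mem_map.2 ⟨r, this, rfl⟩
  rw [AlgHom.map_adjoin, Set.image_singleton] at h2
  exact Algebra.adjoin_le (Set.singleton_subset_iff.2 c.t_mem) h2

/-- A normal finite algebra generically equal to `B[t]/(t^N - u f^α)` is regular, and `f` is a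
unit times a power of an element generating a radical ideal. -/
theorem ramified [IsNoetherianRing B]
    (hreg : ∀ (P : Ideal B) [P.IsPrime], IsRegularLocalRing (Localization.AtPrime P))
    (N : ℕ) (hN : 0 < N) (hNu : IsUnit (N : B)) (u : Bˣ) (α : ℕ) (f₁ : B) (hf₁ : f₁ ≠ 0)
    (hD : ∀ (P : Ideal (B ⧸ Ideal.span ({f₁} : Set B))) [P.IsPrime], IsRegularLocalRing (Localization.AtPrime P))
    (g : B) (hg : g = (u : B) * f₁ ^ α)
    {S : Type u} [CommRing S] (φ : AdjoinRoot (X ^ N - C g : B[X]) →+* S)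
    (hint : (φ.comp (AdjoinRoot.of _)).IsIntegral)
    (hgS : ∀ b : B, b ≠ 0 → ∀ s : S, φ (AdjoinRoot.of _ b) * s = 0 → s = 0)
    (g₀ : B) (hg₀ : g₀ ≠ 0)
    (hloc : ∀ s : S, ∃ (m : ℕ) (r : AdjoinRoot (X ^ N - C g : B[X])), φ r = φ (AdjoinRoot.of _ g₀) ^ m * s)
    (hker : ∀ r : AdjoinRoot (X ^ N - C g : B[X]), φ r = 0 → r = 0)
    (hnorm : ∀ (Q : Ideal S) [Q.IsMaximal],
      IsDomain (Localization.AtPrime Q) ∧ IsIntegrallyClosed (Localization.AtPrime Q)) :
    IsRegularRing S ∧ ∃ π w : S, IsUnit w ∧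
      π ^ (N / Nat.gcd α N) = w * φ (AdjoinRoot.of _ f₁) ∧ (Ideal.span {π}).IsRadical ∧
      ∃ (v : S) (d : ℕ), IsUnit v ∧ IsUnit (d : B) ∧ (∃ b, v ^ d = φ (AdjoinRoot.of _ b)) ∧
        ∀ s : S, ∃ P : B[X], π ∣ s - P.eval₂ (φ.comp (AdjoinRoot.of _)) v := by
  let R := AdjoinRoot (X ^ N - C g : B[X])
  let g₁ := g₀ * f₁
  have hg₁ : g₁ ≠ 0 := mul_ne_zero hg₀ hf₁
  let G : S := φ (AdjoinRoot.of _ g₁)
  have hG : ∀ s : S, G * s = 0 → s = 0 := hgS g₁ hg₁
  let T := Localization.Away G
  have hjinj : Function.Injective (algebraMap S T) :=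
    IsLocalization.injective (M := Submonoid.powers G) T (Submonoid.powers_le.2
      (mem_nonZeroDivisors_iff_right.2 fun s hs => hG s (by rwa [mul_comm] at hs)))
  let θ : R →+* T := (algebraMap S T).comp φ
  have hθG : IsUnit (θ (AdjoinRoot.of _ g₁)) := IsLocalization.Away.algebraMap_isUnit G
  have hθf : IsUnit (θ (algebraMap B R f₁)) := by
    have h : θ (AdjoinRoot.of _ g₁) = θ (AdjoinRoot.of _ g₀) * θ (algebraMap B R f₁) := by
      rw [← map_mul]; exact congrArg θ (map_mul (AdjoinRoot.of _) g₀ f₁)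
    rw [h] at hθG
    exact isUnit_of_mul_isUnit_right hθG
  let K := Localization.Away (algebraMap B R f₁)
  let Θ : K →+* T := IsLocalization.Away.lift (algebraMap B R f₁) hθf
  have hΘ : ∀ r, Θ (algebraMap R K r) = θ r := fun r => IsLocalization.Away.lift_eq _ hθf r
  have hΘinj : Function.Injective Θ := by
    rw [injective_iff_map_eq_zero]
    intro x hx
    obtain ⟨m, r, hr⟩ := IsLocalization.Away.surj (algebraMap B R f₁) x
    have h1 : θ r = 0 := by rw [← hΘ, ← hr, map_mul, hx, zero_mul]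
    rw [hker r (hjinj (h1.trans (map_zero _).symm)), map_zero] at hr
    exact ((IsLocalization.Away.algebraMap_isUnit (algebraMap B R f₁)).pow m).mul_left_eq_zero.1 hr
  obtain ⟨c, hcN, hcα, hcf, hcmem⟩ := exists_data N hN u α f₁ hf₁ g hg K
  have hNu' : IsUnit (c.N : B) := by rw [hcN]; exact hNu
  have hf' : c.f ≠ 0 := by rw [hcf]; exact hf₁
  have hD' : ∀ (P : Ideal (B ⧸ Ideal.span ({c.f} : Set B))) [P.IsPrime], IsRegularLocalRing (Localization.AtPrime P) := by
    rw [hcf]; exact hD
  haveI := c.finite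
  -- `A` maps into `S`
  have hmem : ∀ a : c.A, Θ a ∈ (algebraMap S T).range := by
    intro a
    refine mem_range_of_isIntegral G hG hnorm ?_
    obtain ⟨P, hP, hPa⟩ := Algebra.IsIntegral.isIntegral (R := B) a
    refine ⟨P.map (φ.comp (AdjoinRoot.of _)), hP.map _, ?_⟩
    rw [Polynomial.eval₂_map]
    have h1 := congrArg (Θ.comp c.A.val.toRingHom) hPa
    rw [Polynomial.hom_eval₂, map_zero] at h1
    refine Eq.trans ?_ h1
    refine congrArg₂ (fun (σ : B →+* T) (y : T) => P.eval₂ σ y) ?_ rfl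
    refine RingHom.ext fun b => ?_
    show θ (AdjoinRoot.of _ b) = Θ (algebraMap B K b)
    rw [IsScalarTower.algebraMap_apply B R K, hΘ]
    rfl
  choose φA hφA using hmem
  let ψ : c.A →+* S :=
    { toFun := φA
      map_one' := hjinj (by rw [hφA]; simp)
      map_mul' := fun a b => hjinj (by rw [hφA, map_mul, hφA, hφA, Subalgebra.coe_mul, map_mul])
      map_zero' := hjinj (by rw [hφA]; simp)
      map_add' := fun a b => hjinj (by rw [hφA, map_add, hφA, hφA, Subalgebra.coe_add, map_add]) }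
  have hψ : ∀ r : R, ψ ⟨algebraMap R K r, hcmem r⟩ = φ r := fun r => hjinj (by
    show algebraMap S T (φA _) = _
    rw [hφA]; exact hΘ r)
  have hψB : ∀ b : B, ψ (algebraMap B c.A b) = φ (AdjoinRoot.of _ b) := fun b => by
    rw [← hψ]; exact congrArg ψ (Subtype.ext (IsScalarTower.algebraMap_apply B R K b))
  have hψinj : Function.Injective ψ := fun a b h => Subtype.ext (hΘinj (by
    rw [← hφA, ← hφA]; exact congrArg _ h))
  have hregA : IsRegularRing c.A := by
    haveI : IsNoetherianRing c.A := IsNoetherianRing.of_finite B c.A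
    exact isRegularRing_iff.2 fun Q _ => c.regular hNu' hf' hreg hD' Q
  have hb : Function.Bijective ψ := by
    refine bijective_of_normal ψ (algebraMap B c.A g₁) (fun a ha => hψinj ?_)
      (fun s hs => hgS g₁ hg₁ s (by rwa [hψB] at hs)) ?_ (fun s => ?_)
      (fun a ha => ⟨0, by rw [pow_zero, one_mul]; exact hψinj (ha.trans (map_zero ψ).symm)⟩) (fun Q hQ => ?_)
    · rw [map_zero]
      refine hgS g₁ hg₁ _ ?_
      rw [← hψB, ← map_mul, ha, map_zero]
    · refine RingHom.IsIntegral.tower_top (algebraMap B c.A) ψ ?_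
      rw [show ψ.comp (algebraMap B c.A) = φ.comp (AdjoinRoot.of _) from RingHom.ext hψB]
      exact hint
    · obtain ⟨m, r, hr⟩ := hloc s
      refine ⟨m, algebraMap B c.A (f₁ ^ m) * ⟨algebraMap R K r, hcmem r⟩, ?_⟩
      rw [map_mul, hψB, hψ, hψB, hr, ← map_pow, ← map_pow, ← mul_assoc, ← map_mul, map_pow, map_pow,
        ← mul_pow, ← map_mul, mul_comm f₁ g₀, map_pow]
    · haveI : IsRegularLocalRing (Localization.AtPrime Q) := isRegularRing_iff.1 hregA Q
      haveI := RegLoc.isDomain (Localization.AtPrime Q)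
      exact ⟨inferInstance, RegLoc.isIntegrallyClosed⟩
  let e : c.A ≃+* S := RingEquiv.ofBijective ψ hb
  haveI := hregA
  refine ⟨IsRegularRing.of_ringEquiv e, ?_⟩
  obtain ⟨π, ⟨w, hw, hπw⟩, hrad, v, d, hv, hdu, ⟨b, hvb⟩, hgen⟩ := c.exists_uniformizer hNu' hf' hD'
  refine ⟨e π, e w, hw.map e, ?_, ?_, e v, d, hv.map e, hdu, ⟨b, ?_⟩, fun s => ?_⟩
  · have hNdiv : N / Nat.gcd α N = c.N / Nat.gcd c.α c.N := by rw [hcN, hcα]
    rw [hNdiv, ← map_pow, hπw, map_mul]
    congr 1
    show ψ (algebraMap B c.A c.f) = _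
    rw [hψB, hcf]
  · intro x hx
    obtain ⟨y, rfl⟩ := e.surjective x
    obtain ⟨n, hn⟩ := hx
    rw [← map_pow, Ideal.mem_span_singleton] at hn
    have hn' : π ∣ y ^ n := (map_dvd_iff e).1 hn
    have : y ∈ Ideal.span {π} := hrad ⟨n, Ideal.mem_span_singleton.2 hn'⟩
    exact Ideal.mem_span_singleton.2 (map_dvd e (Ideal.mem_span_singleton.1 this))
  · rw [← map_pow, hvb]
    exact hψB b
  · obtain ⟨a, rfl⟩ := e.surjective s
    obtain ⟨P, hP⟩ := hgen a
    refine ⟨P, ?_⟩
    have hP' := map_dvd e hP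
    rw [map_sub] at hP'
    refine Eq.mp (congrArg (fun z => e π ∣ e a - z) ?_) hP'
    show ψ (Polynomial.aeval v P) = _
    rw [Polynomial.aeval_def, Polynomial.hom_eval₂,
      show ψ.comp (algebraMap B c.A) = φ.comp (AdjoinRoot.of _) from RingHom.ext hψB]
    rfl

end Groth.Agent.CycNorm
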