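import Groth.Agent.CycNorm.Coord
import Groth.Agent.CycNorm.Ramified

/-! The normalised cover where at most one branch passes. -/

set_option autoImplicit false
set_option backward.isDefEq.respectTransparency false
set_option linter.style.haveILetI false
set_option maxHeartbeats 1000000

universe u

open CategoryTheory AlgebraicGeometry TopologicalSpace Opposite

noncomputable section

namespace Groth.Agent.CycNorm

theorem ideal_prod {X : Scheme.{u}} {ι : Type*} (s : Finset ι) (I : ι → X.IdealSheafData) (U : X.affineOpens) :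
    (∏ j ∈ s, I j).ideal U = ∏ j ∈ s, (I j).ideal U := by
  classical
  induction s using Finset.induction with
  | empty =>
    rw [Finset.prod_empty, Finset.prod_empty, Scheme.IdealSheafData.one_eq_top,
      Scheme.IdealSheafData.ideal_top, Ideal.one_eq_top]
    rfl
  | insert a s ha ih =>
    rw [Finset.prod_insert ha, Finset.prod_insert ha, Scheme.IdealSheafData.ideal_mul, Pi.mul_apply, ih]

/-- Sections over affine opens of a normal scheme have normal local rings. -/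
theorem normal_sections {Y : Scheme.{u}} (hY : Pi1.IsNormalScheme Y) {V : Y.Opens} (hV : IsAffineOpen V)
    (Q : Ideal Γ(Y, V)) [Q.IsPrime] :
    IsDomain (Localization.AtPrime Q) ∧ IsIntegrallyClosed (Localization.AtPrime Q) := by
  let q : PrimeSpectrum Γ(Y, V) := ⟨Q, inferInstance⟩
  have hy : hV.fromSpec q ∈ V := by rw [← SetLike.mem_coe, ← hV.range_fromSpec]; exact ⟨q, rfl⟩
  letI := TopCat.Presheaf.algebra_section_stalk Y.presheaf ⟨hV.fromSpec q, hy⟩
  haveI : IsLocalization.AtPrime (Y.presheaf.stalk (hV.fromSpec q)) Q := hV.isLocalization_stalk' q hy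
  obtain ⟨hd, hi⟩ := hY (hV.fromSpec q)
  let e : Y.presheaf.stalk (hV.fromSpec q) ≃+* Localization.AtPrime Q :=
    (IsLocalization.algEquiv Q.primeCompl (Y.presheaf.stalk (hV.fromSpec q)) (Localization.AtPrime Q)).toRingEquiv
  exact ⟨e.symm.toMulEquiv.isDomain (Y.presheaf.stalk (hV.fromSpec q)), IsIntegrallyClosed.of_equiv e⟩

/-- An affine neighbourhood of a point through which at most one branch passes. -/
theorem exists_branch_chart {k : Type u} [Field k] {X Y : Scheme.{u}}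
    (f : X ⟶ Spec (CommRingCat.of k)) [Smooth f] [IsIntegral X]
    {L : X.Modules} (hL : PicF.IsInvertible L) {N : ℕ} (hN : 0 < N) (hNk : (N : k) ≠ 0)
    {r : ℕ} (D : Fin r → X.IdealSheafData) (α : Fin r → ℕ) (hD : LogNCD.IsNCD D f)
    {s : Coh.structureModule X ⟶ CohB1.tensorPow L N}
    (hs : CycCov.IsZeroDiv (CohB1.tensorPow L N) s (CycCov.divIdeal D α))
    {π : Y ⟶ X} (R : CycCov.Root L N s π) (hR : CycCov.IsCover R)
    (P : Fin r → Prop) (hP : ∀ j, 0 < α j → P j) {x : X} {O : X.Opens} (hxO : x ∈ O)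
    (hx : ∀ j j', P j → P j' → x ∈ (D j).support → x ∈ (D j').support → j = j') :
    ∃ U : X.affineOpens, x ∈ U.1 ∧ U.1 ≤ O ∧ IsRegularRing Γ(Y, π ⁻¹ᵁ U.1) ∧
      (∃ (e : Γ(L, U.1)) (g : Γ(X, U.1)), TMul.IsGen e ∧
        SecTwist.val s U.1 = g • CycCov.lpow L U.1 e N ∧
        Ideal.span {g} = (CycCov.divIdeal D α).ideal U) ∧
      ∀ j, P j → (x ∉ (D j).support ∧ (D j).ideal U = ⊤) ∨
        (x ∈ (D j).support ∧ ∃ (f₁ : Γ(X, U.1)) (ϖ w : Γ(Y, π ⁻¹ᵁ U.1)),
          (D j).ideal U = Ideal.span {f₁} ∧ IsUnit w ∧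
          ϖ ^ (N / Nat.gcd (α j) N) = w * (π.app U.1).hom f₁ ∧ (Ideal.span {ϖ}).IsRadical ∧
          (CycCov.divIdeal D α).ideal U = Ideal.span {f₁ ^ α j} ∧
          ∃ (v : Γ(Y, π ⁻¹ᵁ U.1)) (d : ℕ), IsUnit v ∧ IsUnit (d : Γ(X, U.1)) ∧
            (∃ b, v ^ d = (π.app U.1).hom b) ∧
            ∀ t, ∃ P : Polynomial Γ(X, U.1), ϖ ∣ t - P.eval₂ (π.app U.1).hom v) := by
  classical
  obtain ⟨hfin, hYn, -⟩ := id hR
  haveI := hfin
  -- the open away from the other branches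
  let Z : Set X := ⋃ j ∈ {j : Fin r | P j ∧ x ∉ (D j).support}, ((D j).support : Set X)
  have hZ : IsClosed Z := Set.Finite.isClosed_biUnion (Set.toFinite _) fun j _ => (D j).support.isClosed
  let O' : X.Opens := O ⊓ ⟨Zᶜ, hZ.isOpen_compl⟩
  have hxO' : x ∈ O' := by
    refine ⟨hxO, ?_⟩
    intro h
    obtain ⟨j, hj, hj'⟩ : ∃ j, ∃ (_ : j ∈ {j : Fin r | P j ∧ x ∉ (D j).support}), x ∈ ((D j).support : Set X) :=
      Set.mem_iUnion₂.mp h
    exact hj.2 hj'
  have hout : ∀ (U : X.affineOpens), U.1 ≤ O' → ∀ j, P j → x ∉ (D j).support → (D j).ideal U = ⊤ := by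
    intro U hU j hj hxj
    refine ideal_eq_top_of_disjoint _ U (Set.disjoint_left.mpr fun y hy hy' => (hU hy).2 ?_)
    simp only [Z, Set.mem_iUnion]
    exact ⟨j, ⟨hj, hxj⟩, hy'⟩
  by_cases hex : ∃ j₀, P j₀ ∧ x ∈ (D j₀).support
  swap
  · simp only [not_exists, not_and] at hex
    obtain ⟨U, e, g, hxU, hUO, he, hg, hI⟩ := exists_chart hL hs hxO'
    have hu : IsUnit g := by
      rw [← Ideal.span_singleton_eq_top, hI, CycCov.divIdeal, ideal_prod]
      refine Finset.prod_induction _ (fun I => I = ⊤) (fun I J hI' hJ' => by rw [hI', hJ', Ideal.top_mul])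
        Ideal.one_eq_top fun j _ => ?_
      rw [Scheme.IdealSheafData.ideal_pow, Pi.pow_apply]
      rcases Nat.eq_zero_or_pos (α j) with h0 | h0
      · rw [h0, pow_zero, Ideal.one_eq_top]
      · rw [hout U hUO j (hP j h0) (hex j (hP j h0)), Ideal.top_pow]
    refine ⟨U, hxU, hUO.trans inf_le_left, ?_, ⟨e, g, he, hg, hI⟩, fun j hj => Or.inl ⟨hex j hj, hout U hUO j hj (hex j hj)⟩⟩
    have het := etale_app f hN hNk R hR U ⟨x, hxU⟩ e he g hg hu
    letI : Algebra k Γ(X, U.1) := (cst f U.1).toAlgebra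
    haveI : Algebra.Smooth k Γ(X, U.1) := smooth_cst f U.2
    letI : Algebra Γ(X, U.1) Γ(Y, π ⁻¹ᵁ U.1) := (π.app U.1).hom.toAlgebra
    haveI : Algebra.Etale Γ(X, U.1) Γ(Y, π ⁻¹ᵁ U.1) := het
    haveI : Algebra.Smooth Γ(X, U.1) Γ(Y, π ⁻¹ᵁ U.1) := inferInstance
    letI : Algebra k Γ(Y, π ⁻¹ᵁ U.1) := ((π.app U.1).hom.comp (cst f U.1)).toAlgebra
    haveI : IsScalarTower k Γ(X, U.1) Γ(Y, π ⁻¹ᵁ U.1) := IsScalarTower.of_algebraMap_eq fun _ => rfl
    haveI : Algebra.Smooth k Γ(Y, π ⁻¹ᵁ U.1) := Algebra.Smooth.comp k Γ(X, U.1) _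
    exact GeomProp.isRegularRing_of_smooth k _
  obtain ⟨j₀, hj₀, hxj₀⟩ := hex
  obtain ⟨W₀, hxW₀, n, v, ei, -, het, hcoord, -⟩ := hD x ⟨⟨j₀, hxj₀⟩⟩
  obtain ⟨U₀, hxU₀, hetU⟩ := etale_coord f W₀ v hxW₀
  obtain ⟨U, e, g, hxU, hUO, he, hg, hI⟩ := exists_chart hL hs
    (show x ∈ O' ⊓ (W₀ ⊓ U₀) from ⟨hxO', hxW₀, hxU₀⟩)
  have hUO' : U.1 ≤ O' := hUO.trans inf_le_left
  have hUW₀ : U.1 ≤ W₀ := hUO.trans (inf_le_right.trans inf_le_left)
  let c := ULift.up.{u} (ei ⟨j₀, hxj₀⟩)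
  let w : ULift.{u} (Fin n) → Γ(X, U.1) := fun j => LogNCD.sectOn W₀ hUW₀ (v j)
  let f₁ : Γ(X, U.1) := w c
  have hDj : (D j₀).ideal U = Ideal.span {f₁} := hcoord ⟨j₀, hxj₀⟩ U hUW₀
  letI : Algebra k Γ(X, U.1) := (cst f U.1).toAlgebra
  haveI : Algebra.Smooth k Γ(X, U.1) := smooth_cst f U.2
  haveI hBreg : IsRegularRing Γ(X, U.1) := GeomProp.isRegularRing_of_smooth k _
  haveI : IsNoetherianRing Γ(X, U.1) := Algebra.FiniteType.isNoetherianRing k _
  haveI : Nonempty U.1 := ⟨⟨x, hxU⟩⟩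
  haveI : IsDomain Γ(X, U.1) := IsIntegral.component_integral U.1
  have hw : (MvPolynomial.aeval (R := k) w).toRingHom.Etale := by
    have h := hetU U (hUO.trans (inf_le_right.trans inf_le_right)) hUW₀
    convert h using 1
    exact MvPolynomial.ringHom_ext (fun r => by simp [w, RingHom.algebraMap_toAlgebra]) (fun j => by simp [w])
  have hf₁ : f₁ ≠ 0 := by
    letI : Algebra (MvPolynomial (ULift.{u} (Fin n)) k) Γ(X, U.1) :=
      (MvPolynomial.aeval (R := k) w).toRingHom.toAlgebra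
    haveI : Algebra.Etale (MvPolynomial (ULift.{u} (Fin n)) k) Γ(X, U.1) := hw
    haveI : Module.Flat (MvPolynomial (ULift.{u} (Fin n)) k) Γ(X, U.1) := Algebra.Smooth.flat _ _
    have h := IsSMulRegular.of_flat (S := Γ(X, U.1))
      (IsSMulRegular.of_ne_zero (MvPolynomial.X_ne_zero (R := k) c))
    intro h0
    have hX : algebraMap (MvPolynomial (ULift.{u} (Fin n)) k) Γ(X, U.1) (MvPolynomial.X c) = 0 := by
      rw [RingHom.algebraMap_toAlgebra]
      show MvPolynomial.aeval w (MvPolynomial.X c) = 0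
      rw [MvPolynomial.aeval_X]
      exact h0
    exact zero_ne_one (α := Γ(X, U.1)) (h (by simp [hX]))
  have hquot : IsRegularRing (Γ(X, U.1) ⧸ Ideal.span {f₁}) := regular_quot_coordinate k _ w hw c
  have hdiv : (CycCov.divIdeal D α).ideal U = Ideal.span {f₁ ^ α j₀} := by
    rw [CycCov.divIdeal, ideal_prod, Finset.prod_eq_single j₀, Scheme.IdealSheafData.ideal_pow, Pi.pow_apply,
      hDj, Ideal.span_singleton_pow]
    · intro j _ hj
      rw [Scheme.IdealSheafData.ideal_pow, Pi.pow_apply]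
      rcases Nat.eq_zero_or_pos (α j) with h0 | h0
      · rw [h0, pow_zero]
      · rw [hout U hUO' j (hP j h0) fun hxj => hj (hx j j₀ (hP j h0) hj₀ hxj hxj₀), Ideal.top_pow, Ideal.one_eq_top]
    · simp
  obtain ⟨u, hu⟩ := Ideal.span_singleton_eq_span_singleton.1 (hdiv.symm.trans hI.symm)
  have hNu : IsUnit ((N : Γ(X, U.1))) := by
    rw [← map_natCast (algebraMap k Γ(X, U.1))]
    exact (isUnit_iff_ne_zero.mpr hNk).map _
  obtain ⟨hint, hgS, hker, g₀, hg₀, hloc⟩ := chart_facts R hR hN U ⟨x, hxU⟩ e he g hg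
  obtain ⟨hreg, ϖ, w', hw', hϖ, hrad, hgen⟩ := ramified (fun P _ => isRegularRing_iff.1 hBreg P) N hN hNu u
    (α j₀) f₁ hf₁ (fun P _ => isRegularRing_iff.1 hquot P) g (by rw [← hu, mul_comm])
    (CycCov.chart R U e (isGen_self he) g hg) hint hgS g₀ hg₀ hloc hker
    (fun Q _ => normal_sections hYn (U.2.preimage π) Q)
  refine ⟨U, hxU, hUO'.trans inf_le_left, hreg, ⟨e, g, he, hg, hI⟩, fun j hj => ?_⟩
  by_cases hxj : x ∈ (D j).support
  · obtain rfl := hx j j₀ hj hj₀ hxj hxj₀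
    have hφ : (CycCov.chart R U e (isGen_self he) g hg).comp (AdjoinRoot.of _) = (π.app U.1).hom :=
      RingHom.ext fun b => chart_of R U e _ g hg b
    refine Or.inr ⟨hxj, f₁, ϖ, w', hDj, hw', ?_, hrad, hdiv, ?_⟩
    · rw [hϖ, chart_of R U e _ g hg f₁]
    obtain ⟨v, d, hv, hdu, ⟨b, hb⟩, hgen⟩ := hgen
    exact ⟨v, d, hv, hdu, ⟨b, hb.trans (chart_of R U e _ g hg b)⟩, hφ ▸ hgen⟩
  · exact Or.inl ⟨hxj, hout U hUO' j hj hxj⟩

end Groth.Agent.CycNorm
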