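import Groth.Agent.CycNorm.Regular
import Groth.Agent.KumSmooth.Basic
import Groth.Prelude.Def_LogNCD

/-! Coordinates at a point of a normal crossing divisor. -/

set_option autoImplicit false
set_option backward.isDefEq.respectTransparency false
set_option linter.style.haveILetI false

universe u

open CategoryTheory AlgebraicGeometry TopologicalSpace Opposite

noncomputable section

namespace Groth.Agent.CycNorm

/-- A coordinate of an étale chart over affine space cuts out a smooth divisor. -/
theorem regular_quot_coordinate (k : Type u) [Field k] {σ : Type u} [Finite σ] (B : Type u) [CommRing B]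
    [Algebra k B] (w : σ → B) (hw : (MvPolynomial.aeval (R := k) w).toRingHom.Etale) (j : σ) :
    IsRegularRing (B ⧸ Ideal.span {w j}) := by
  classical
  letI : Algebra (MvPolynomial σ k) B := (MvPolynomial.aeval (R := k) w).toRingHom.toAlgebra
  haveI : IsScalarTower k (MvPolynomial σ k) B := IsScalarTower.of_algebraMap_eq fun r =>
    ((MvPolynomial.aeval (R := k) w).commutes r).symm
  haveI : Algebra.Etale (MvPolynomial σ k) B := hw
  haveI : Algebra.FinitePresentation k B := Algebra.FinitePresentation.trans k (MvPolynomial σ k) B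
  haveI : Algebra.FinitePresentation k (B ⧸ Ideal.span {w j}) :=
    Algebra.FinitePresentation.quotient ⟨{w j}, by simp⟩
  haveI : Algebra.FormallySmooth k (B ⧸ Ideal.span {w j}) := by
    refine .of_comp_surjective fun C _ _ J hJ f => ?_
    choose s hs using fun i => Ideal.Quotient.mk_surjective (f (Ideal.Quotient.mk (Ideal.span {w j}) (w i)))
    let t : σ → C := Function.update s j 0
    have hwj : Ideal.Quotient.mk (Ideal.span {w j}) (w j) = 0 :=
      Ideal.Quotient.eq_zero_iff_mem.2 (Ideal.mem_span_singleton_self _)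
    have ht : ∀ i, Ideal.Quotient.mk J (t i) = f (Ideal.Quotient.mk (Ideal.span {w j}) (w i)) := by
      intro i
      by_cases h : i = j
      · subst h
        rw [hwj, map_zero]
        simp [t]
      · simp only [t, Function.update_of_ne h]
        exact hs i
    letI : Algebra (MvPolynomial σ k) C := (MvPolynomial.aeval (R := k) t).toRingHom.toAlgebra
    let fB : B →ₐ[k] C ⧸ J := f.comp (Ideal.Quotient.mkₐ k (Ideal.span {w j}))
    have hcomm : fB.comp (MvPolynomial.aeval w) = (Ideal.Quotient.mkₐ k J).comp (MvPolynomial.aeval t) :=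
      MvPolynomial.algHom_ext fun i => by
        simp only [AlgHom.comp_apply, MvPolynomial.aeval_X]
        exact (ht i).symm
    let fB' : B →ₐ[MvPolynomial σ k] C ⧸ J :=
      { fB.toRingHom with commutes' := fun p => DFunLike.congr_fun hcomm p }
    obtain ⟨g, hg⟩ := Algebra.FormallySmooth.comp_surjective (MvPolynomial σ k) B (B := C) J hJ fB'
    let g₀ : B →ₐ[k] C :=
      { g.toRingHom with
        commutes' := fun r => by
          show g (algebraMap k B r) = _
          rw [IsScalarTower.algebraMap_apply k (MvPolynomial σ k) B, AlgHom.commutes]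
          exact (MvPolynomial.aeval (R := k) t).commutes r }
    have hgj : g₀ (w j) = 0 := by
      have h1 : g (algebraMap (MvPolynomial σ k) B (MvPolynomial.X j)) = MvPolynomial.aeval t (MvPolynomial.X j) :=
        g.commutes _
      rw [RingHom.algebraMap_toAlgebra] at h1
      show g (w j) = 0
      simpa [t] using h1
    refine ⟨Ideal.Quotient.liftₐ (Ideal.span {w j}) g₀ (fun a ha => ?_), ?_⟩
    · obtain ⟨c, rfl⟩ := Ideal.mem_span_singleton'.1 ha
      rw [map_mul, hgj, mul_zero]
    · refine Ideal.Quotient.algHom_ext k (AlgHom.ext fun b => ?_)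
      exact DFunLike.congr_fun hg b
  haveI : Algebra.Smooth k (B ⧸ Ideal.span {w j}) := ⟨inferInstance, inferInstance⟩
  exact GeomProp.isRegularRing_of_smooth k _

variable {k : Type u} [Field k] {X : Scheme.{u}}

theorem coord_eq (W : X.Opens) {U : X.Opens} (hU : IsAffineOpen U) (h : U ≤ W) (a : Γ(W, ⊤)) :
    (Scheme.ΓSpecIso Γ(X, U)).hom ((hU.isoSpec.inv ≫ X.homOfLE h).appTop a) = LogNCD.sectOn W h a := by
  rw [LogNCD.sectOn_apply, Scheme.Hom.comp_appTop, hU.isoSpec_inv_appTop, Scheme.homOfLE_appTop]
  simp only [CommRingCat.comp_apply]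
  simp [Scheme.Opens.topIso]
  rw [← CommRingCat.comp_apply, ← CommRingCat.comp_apply, ← Functor.map_comp, ← Functor.map_comp]
  rfl

/-- The coordinate ring of an affine chart inside the domain of a normal crossing chart. -/
theorem etale_coord (f : X ⟶ Spec (CommRingCat.of k)) (W : X.Opens) {n : ℕ}
    (v : ULift.{u} (Fin n) → Γ(W, ⊤)) [Etale (AffineSpace.homOfVector (W.ι ≫ f) v)] {x : X} (hx : x ∈ W) :
    ∃ (U : X.Opens), x ∈ U ∧ ∀ (U' : X.affineOpens), U'.1 ≤ U → ∀ (h : U'.1 ≤ W),
      (MvPolynomial.eval₂Hom (cst f U'.1) (fun j => LogNCD.sectOn W h (v j))).Etale := by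
  obtain ⟨V, hV, U, hU, hxU, hUW, hUV, het⟩ := KumSmooth.exists_chart f W v x hx
  obtain rfl : V = ⊤ := by
    rw [eq_top_iff]
    intro z _
    rw [Subsingleton.elim z (f.base x)]
    exact hUV hxU
  refine ⟨U, hxU, fun U' hU'U h => ?_⟩
  let e := (Scheme.ΓSpecIso (CommRingCat.of k)).inv.hom
  have he : Function.Bijective e := ConcreteCategory.bijective_of_isIso (Scheme.ΓSpecIso (CommRingCat.of k)).inv
  let res' := (X.presheaf.map (homOfLE hU'U).op).hom
  have hres : res'.Etale := by
    have h1 := HasRingHomProperty.appLE @Etale (𝟙 X) inferInstance ⟨U, hU⟩ U' (by simpa using hU'U)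
    simpa [res', Scheme.Hom.appLE] using h1
  have hmap : (MvPolynomial.map (σ := ULift.{u} (Fin n)) e).Etale :=
    RingHom.Etale.of_bijective ⟨MvPolynomial.map_injective e he.1, MvPolynomial.map_surjective e he.2⟩
  have := RingHom.Etale.stableUnderComposition _ _ hmap (RingHom.Etale.stableUnderComposition _ _ het hres)
  convert this using 1
  refine MvPolynomial.ringHom_ext (fun r => ?_) fun j => ?_
  · simp only [RingHom.comp_apply, MvPolynomial.eval₂Hom_C, MvPolynomial.map_C]
    show cst f U'.1 r = (X.presheaf.map (homOfLE hU'U).op).hom ((f.appLE ⊤ U hUV).hom (e r))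
    rw [← CommRingCat.comp_apply, Scheme.Hom.appLE_map]
    rfl
  · simp only [RingHom.comp_apply, MvPolynomial.eval₂Hom_X', MvPolynomial.map_X]
    rw [coord_eq W hU hUW, LogNCD.sectOn_apply, LogNCD.sectOn_apply]
    show _ = (X.presheaf.map (homOfLE hU'U).op) _
    rw [← CommRingCat.comp_apply, ← CommRingCat.comp_apply, ← CommRingCat.comp_apply, ← Functor.map_comp]
    rfl

end Groth.Agent.CycNorm
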