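import Groth.Agent.CycNorm.Branch
import Groth.Agent.FpqcDescent.IdealGlue

/-! Pull-backs of the branches. -/

set_option autoImplicit false
set_option backward.isDefEq.respectTransparency false
set_option linter.style.haveILetI false

universe u

open CategoryTheory AlgebraicGeometry TopologicalSpace Opposite

noncomputable section

namespace Groth.Agent.CycNorm

/-- Ideal sheaves agreeing on affine opens covering an affine open agree on it. -/
theorem ideal_eq_of_cover {X : Scheme.{u}} {I J : X.IdealSheafData} (V : X.affineOpens) {ι : Type*}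
    (U : ι → X.affineOpens) (hU : ∀ x ∈ V.1, ∃ i, x ∈ (U i).1) (H : ∀ i, I.ideal (U i) = J.ideal (U i)) :
    I.ideal V = J.ideal V := by
  suffices key : ∀ I J : X.IdealSheafData, (∀ i, I.ideal (U i) ≤ J.ideal (U i)) → I.ideal V ≤ J.ideal V from
    le_antisymm (key I J fun i => (H i).le) (key J I fun i => (H i).ge)
  clear H I J
  intro I J H
  have : ∀ x : V.1, ∃ (i : ι) (r : Γ(X, V.1)) (rU : Γ(X, U i)),
      X.basicOpen r = X.basicOpen rU ∧ x.1 ∈ X.basicOpen r := by
    intro ⟨x, hxV⟩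
    obtain ⟨i, hi⟩ := hU x hxV
    exact ⟨i, exists_basicOpen_le_affine_inter V.2 (U i).2 _ ⟨hxV, hi⟩⟩
  choose i r rU e hxr using this
  have : Ideal.span (Set.range r) = ⊤ := by
    rw [← V.2.self_le_iSup_basicOpen_iff]
    exact fun x hxV ↦ TopologicalSpace.Opens.mem_iSup.mpr ⟨⟨_, _, rfl⟩, hxr ⟨x, hxV⟩⟩
  have inst := V.2.isLocalization_basicOpen
  refine Submodule.le_of_isLocalized_span _ this (fun i ↦ Γ(X, X.basicOpen i.1))
    (fun i ↦ Algebra.linearMap Γ(X, V.1) Γ(X, X.basicOpen i.1)) ?_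
  rintro ⟨_, j, rfl⟩
  simp only [← Submodule.restrictScalars_localized' Γ(X, X.basicOpen (r j)),
    Ideal.localized'_eq_map, RingHom.algebraMap_toAlgebra]
  erw [I.map_ideal (U := ⟨_, V.2.basicOpen _⟩) (X.basicOpen_le (r j)),
    J.map_ideal (U := ⟨_, V.2.basicOpen _⟩) (X.basicOpen_le (r j))]
  delta AlgebraicGeometry.Scheme.algebra_section_section_basicOpen
  rw! [e]
  rw [← I.map_ideal (V := (U _)) (X.basicOpen_le _), ← J.map_ideal (V := (U _)) (X.basicOpen_le _)]
  exact Ideal.map_mono (f := (X.presheaf.map (homOfLE (X.basicOpen_le (rU j))).op).hom) (H (i j))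

theorem ideal_comap_preimage {X Y : Scheme.{u}} (π : Y ⟶ X) [IsAffineHom π] (I : X.IdealSheafData)
    (U : X.affineOpens) :
    (I.comap π).ideal ⟨π ⁻¹ᵁ U.1, U.2.preimage π⟩ = (I.ideal U).map (π.app U.1).hom := by
  rw [FpqcDescent.ideal_comap_appLE I π U ⟨π ⁻¹ᵁ U.1, U.2.preimage π⟩ le_rfl]
  exact congrArg (fun φ => Ideal.map φ (I.ideal U)) (congrArg CommRingCat.Hom.hom π.app_eq_appLE.symm)

variable {k : Type u} [Field k] {X Y : Scheme.{u}}

/-- Around a point through which at most one component passes, the pull-back of each component is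
the power of its radical with the ramification index as exponent. -/
theorem exists_ramification_chart (f : X ⟶ Spec (CommRingCat.of k)) [Smooth f] [IsIntegral X]
    {L : X.Modules} (hL : PicF.IsInvertible L) {N : ℕ} (hN : 0 < N) (hNk : (N : k) ≠ 0)
    {r : ℕ} (D : Fin r → X.IdealSheafData) (α : Fin r → ℕ) (hD : LogNCD.IsNCD D f)
    {s : Coh.structureModule X ⟶ CohB1.tensorPow L N}
    (hs : CycCov.IsZeroDiv (CohB1.tensorPow L N) s (CycCov.divIdeal D α))
    {π : Y ⟶ X} [IsAffineHom π] (R : CycCov.Root L N s π) (hR : CycCov.IsCover R) {x : X}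
    (hx : ∀ j j', x ∈ (D j).support → x ∈ (D j').support → j = j') :
    ∃ U : X.affineOpens, x ∈ U.1 ∧ ∀ j,
      ((D j).comap π).ideal ⟨π ⁻¹ᵁ U.1, U.2.preimage π⟩ =
        (((D j).comap π).radical.ideal ⟨π ⁻¹ᵁ U.1, U.2.preimage π⟩) ^ (N / Nat.gcd N (α j)) := by
  obtain ⟨U, hxU, -, -, -, h⟩ := exists_branch_chart f hL hN hNk D α hD hs R hR (fun _ => True)
    (fun _ _ => trivial) (O := ⊤) (x := x) trivial (fun j j' _ _ => hx j j')
  refine ⟨U, hxU, fun j => ?_⟩
  rw [Scheme.IdealSheafData.radical_ideal, ideal_comap_preimage]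
  rcases h j trivial with ⟨-, htop⟩ | ⟨-, f₁, ϖ, w, hf₁, hw, hϖ, hrad, -, -⟩
  · rw [htop, Ideal.map_top, Ideal.radical_top, Ideal.top_pow]
  · rw [hf₁, Ideal.map_span, Set.image_singleton]
    have he : 0 < N / Nat.gcd (α j) N :=
      Nat.div_pos (Nat.le_of_dvd hN (Nat.gcd_dvd_right _ _)) (Nat.gcd_pos_of_pos_right _ hN)
    have hspan : Ideal.span {(π.app U.1).hom f₁} = Ideal.span {ϖ} ^ (N / Nat.gcd (α j) N) := by
      rw [Ideal.span_singleton_pow, hϖ, Ideal.span_singleton_mul_left_unit hw]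
    rw [hspan, Ideal.radical_pow _ he.ne', hrad.radical, Nat.gcd_comm N]

end Groth.Agent.CycNorm
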