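import Groth.Agent.CycNorm.Regular
import Groth.Agent.TMul.Ample
import Mathlib.FieldTheory.KummerExtension
import Mathlib.RingTheory.Polynomial.GaussLemma
import Mathlib.AlgebraicGeometry.FunctionField

/-! Irreducibility of cyclic covers. -/

set_option autoImplicit false
set_option backward.isDefEq.respectTransparency false
set_option linter.style.haveILetI false

universe u

open CategoryTheory AlgebraicGeometry TopologicalSpace Opposite Polynomial
open Groth.Agent.QC (res resO res_res res_smul res_self)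

noncomputable section

namespace Groth.Agent.CycNorm

/-- A reducible `X ^ N - a` over a field with the roots of unity comes from a root of `a`. -/
theorem exists_pow_eq_of_reducible {K : Type u} [Field K] {N : ℕ} (hN : 0 < N) {ζ : K} (hζ : IsPrimitiveRoot ζ N)
    {a : K} (ha : ¬ Irreducible (Polynomial.X ^ N - C a)) : ∃ (μ : ℕ) (b : K), 1 < μ ∧ μ ∣ N ∧ b ^ μ = a := by
  classical
  have hN1 : 1 < N := by
    rcases Nat.lt_or_ge 1 N with h | h
    · exact h
    · obtain rfl : N = 1 := by omega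
      rw [pow_one] at ha
      exact absurd (irreducible_X_sub_C a) ha
  rcases eq_or_ne a 0 with rfl | ha0
  · exact ⟨N, 0, hN1, dvd_rfl, zero_pow hN.ne'⟩
  set p : K[X] := Polynomial.X ^ N - C a
  have hp : p.Monic := monic_X_pow_sub_C a hN.ne'
  have hdeg : p.natDegree = N := natDegree_X_pow_sub_C
  have hpu : ¬ IsUnit p := fun h => by
    have := natDegree_eq_zero_of_isUnit h
    omega
  obtain ⟨q, hqm, hqi, hqp⟩ := exists_monic_irreducible_factor p hpu
  set d := q.natDegree
  have hd : d < N := by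
    by_contra hd
    have := natDegree_le_of_dvd hqp hp.ne_zero
    exact ha ((eq_of_monic_of_dvd_of_natDegree_le hqm hp hqp (hdeg.le.trans (not_lt.1 hd))) ▸ hqi)
  have hd0 : 0 < d := hqi.natDegree_pos
  let E := AlgebraicClosure K
  let ι := algebraMap K E
  obtain ⟨α, hα⟩ := IsAlgClosed.exists_pow_nat_eq (ι a) hN
  have hα0 : α ≠ 0 := fun h => ha0 (ι.injective (by rw [← hα, h, zero_pow hN.ne', map_zero]))
  have hsp : (q.map ι).Splits := IsAlgClosed.splits _
  have hqm' : (q.map ι).Monic := hqm.map ι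
  have hcard : Multiset.card (q.map ι).roots = d := by
    rw [← hsp.natDegree_eq_card_roots, natDegree_map]
  have hroot : ∀ β ∈ (q.map ι).roots, ∃ i : ℕ, β = ι (ζ ^ i) * α := by
    intro β hβ
    have h1 : (q.map ι).eval β = 0 := (mem_roots hqm'.ne_zero).1 hβ
    obtain ⟨c, hc⟩ := map_dvd (Polynomial.mapRingHom ι) hqp
    have h2 : (p.map ι).eval β = 0 := by
      rw [show p.map ι = q.map ι * c from hc, eval_mul, h1, zero_mul]
    simp only [p, Polynomial.map_sub, Polynomial.map_pow, map_X, map_C, eval_sub, eval_pow, eval_X, eval_C,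
      sub_eq_zero] at h2
    haveI : NeZero N := ⟨hN.ne'⟩
    obtain ⟨i, -, hi⟩ := (hζ.map_of_injective ι.injective).eq_pow_of_pow_eq_one
      (show (β / α) ^ N = 1 by rw [div_pow, h2, hα, div_self]; simpa using ha0)
    exact ⟨i, by rw [map_pow, hi, div_mul_cancel₀ _ hα0]⟩
  have hprod : ∃ c : K, c ≠ 0 ∧ (q.map ι).roots.prod = ι c * α ^ d := by
    rw [← hcard]
    revert hroot
    generalize (q.map ι).roots = m
    intro hm
    induction m using Multiset.induction with
    | empty => exact ⟨1, one_ne_zero, by simp⟩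
    | cons β m ih =>
      obtain ⟨c, hc0, hc⟩ := ih fun β' h => hm β' (Multiset.mem_cons_of_mem h)
      obtain ⟨i, hi⟩ := hm β (Multiset.mem_cons_self _ _)
      refine ⟨ζ ^ i * c, mul_ne_zero (pow_ne_zero _ (hζ.ne_zero hN.ne')) hc0, ?_⟩
      rw [Multiset.prod_cons, hc, hi, Multiset.card_cons, pow_succ, map_mul]
      ring
  obtain ⟨c, hc0, hc⟩ := hprod
  have hFd : α ^ d ∈ ι.fieldRange := by
    have h1 := hsp.coeff_zero_eq_prod_roots_of_monic hqm'
    rw [natDegree_map, coeff_map, hc] at h1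
    refine ⟨(-1) ^ d * q.coeff 0 / c, ?_⟩
    rw [map_div₀, map_mul, h1, map_pow, map_neg, map_one, ← mul_assoc, ← mul_pow, neg_one_mul, neg_neg, one_pow,
      one_mul, mul_comm (ι c), mul_div_assoc, div_self (fun h => hc0 (ι.injective (h.trans (map_zero ι).symm))),
      mul_one]
  have hFN : α ^ N ∈ ι.fieldRange := ⟨a, hα.symm⟩
  have hG : α ^ Nat.gcd d N ∈ ι.fieldRange := by
    rw [← zpow_natCast, Nat.gcd_eq_gcd_ab, zpow_add₀ hα0, zpow_mul, zpow_mul, zpow_natCast, zpow_natCast]
    exact mul_mem (zpow_mem hFd _) (zpow_mem hFN _)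
  obtain ⟨b, hb⟩ := hG
  refine ⟨N / Nat.gcd d N, b, ?_, Nat.div_dvd_of_dvd (Nat.gcd_dvd_right _ _), ι.injective ?_⟩
  · have h1 : Nat.gcd d N ≤ d := Nat.le_of_dvd hd0 (Nat.gcd_dvd_left _ _)
    by_contra h2
    have h3 := Nat.div_mul_cancel (Nat.gcd_dvd_right d N)
    have : N / Nat.gcd d N * Nat.gcd d N ≤ 1 * Nat.gcd d N := Nat.mul_le_mul_right _ (not_lt.1 h2)
    omega
  · rw [map_pow, hb, ← pow_mul, Nat.mul_div_cancel' (Nat.gcd_dvd_right _ _), hα]

/-- An algebra generically `B[t]/(t^N - g)` is a domain iff the polynomial is irreducible generically. -/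
theorem isDomain_iff_irreducible {B : Type u} [CommRing B] [IsDomain B] [IsIntegrallyClosed B]
    (K : Type u) [Field K] [Algebra B K] [IsFractionRing B K] {N : ℕ} (hN : 0 < N) (g : B)
    {S : Type u} [CommRing S] (φ : AdjoinRoot (Polynomial.X ^ N - C g : B[X]) →+* S)
    (hgS : ∀ b : B, b ≠ 0 → ∀ s : S, φ (AdjoinRoot.of _ b) * s = 0 → s = 0)
    (hker : ∀ r, φ r = 0 → r = 0) (g₀ : B) (hg₀ : g₀ ≠ 0)
    (hloc : ∀ s : S, ∃ (m : ℕ) (r : AdjoinRoot (Polynomial.X ^ N - C g : B[X])),
      φ r = φ (AdjoinRoot.of _ g₀) ^ m * s) :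
    IsDomain S ↔ Irreducible (Polynomial.X ^ N - C (algebraMap B K g)) := by
  let p : B[X] := Polynomial.X ^ N - C g
  have hp : p.Monic := monic_X_pow_sub_C g hN.ne'
  have hpK : Polynomial.X ^ N - C (algebraMap B K g) = p.map (algebraMap B K) := by simp [p]
  have hinj : Function.Injective φ := (injective_iff_map_eq_zero φ).2 hker
  rw [hpK, ← hp.irreducible_iff_irreducible_map_fraction_map (K := K)]
  constructor
  · intro hS
    haveI : IsDomain (AdjoinRoot p) := hinj.isDomain
    have h1 : (Ideal.span {p}).IsPrime := (Ideal.Quotient.isDomain_iff_prime _).1 ‹IsDomain (AdjoinRoot p)›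
    exact ((Ideal.span_singleton_prime hp.ne_zero).1 h1).irreducible
  · intro hi
    have hiK := (hp.irreducible_iff_irreducible_map_fraction_map (K := K)).1 hi
    have hprime : Prime p := by
      refine ⟨hp.ne_zero, hi.not_isUnit, fun x y hxy => ?_⟩
      have h2 := map_dvd (Polynomial.mapRingHom (algebraMap B K)) hxy
      rw [coe_mapRingHom, Polynomial.map_mul] at h2
      rcases hiK.prime.dvd_or_dvd h2 with h | h
      · exact Or.inl ((Polynomial.map_dvd_map _ (IsFractionRing.injective B K) hp).1 h)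
      · exact Or.inr ((Polynomial.map_dvd_map _ (IsFractionRing.injective B K) hp).1 h)
    haveI : IsDomain (AdjoinRoot p) := (Ideal.Quotient.isDomain_iff_prime _).2
      ((Ideal.span_singleton_prime hp.ne_zero).2 hprime)
    haveI : Nontrivial S := hinj.nontrivial
    haveI : NoZeroDivisors S := ⟨fun {x y} hxy => by
      have hz : ∀ (m : ℕ) (t : S), φ (AdjoinRoot.of _ g₀) ^ m * t = 0 → t = 0 := fun m t ht =>
        hgS (g₀ ^ m) (pow_ne_zero _ hg₀) t (by rwa [map_pow, map_pow])
      obtain ⟨m, r, hr⟩ := hloc x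
      obtain ⟨m', r', hr'⟩ := hloc y
      have : r * r' = 0 := hker _ (by rw [map_mul, hr, hr', mul_mul_mul_comm, hxy, mul_zero])
      rcases mul_eq_zero.1 this with h | h
      · rw [h, map_zero] at hr; exact Or.inl (hz m x hr.symm)
      · rw [h, map_zero] at hr'; exact Or.inr (hz m' y hr'.symm)⟩
    exact NoZeroDivisors.to_isDomain S

variable {X Y : Scheme.{u}} {L : X.Modules}

/-- Restriction of sections of a module with local frames is injective on an integral scheme. -/
theorem res_injective [IsIntegral X] {M : X.Modules}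
    (hM : ∀ x : X, ∃ (V : X.Opens) (e : Γ(M, V)), x ∈ V ∧ TMul.IsGen e) {U W : X.Opens} (h : W ≤ U)
    (hW : (W : Set X).Nonempty) : Function.Injective (res M h) := by
  rw [injective_iff_map_eq_zero]
  intro t ht
  refine QC.section_eq_of_locally fun x hx => ?_
  obtain ⟨V, e, hxV, he⟩ := hM x
  refine ⟨U ⊓ V, inf_le_left, ⟨hx, hxV⟩, ?_⟩
  obtain ⟨c, hc⟩ := (he (U ⊓ V) inf_le_right).2 (res M inf_le_left t)
  obtain ⟨z, hzW, hzV⟩ : ((W : Set X) ∩ (U ⊓ V : X.Opens)).Nonempty := by
    obtain ⟨w, hw⟩ := hW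
    exact nonempty_preirreducible_inter W.2 (U ⊓ V).2 ⟨w, hw⟩ ⟨x, hx, hxV⟩
  haveI : Nonempty (W ⊓ (U ⊓ V) : X.Opens) := ⟨⟨z, hzW, hzV⟩⟩
  have h2 : c • res M inf_le_right e = res M (inf_le_left : U ⊓ V ≤ U) t := hc
  have h3 := congrArg (res M (inf_le_right : W ⊓ (U ⊓ V) ≤ U ⊓ V)) h2
  rw [res_smul, res_res, res_res, ← res_res M (inf_le_left : W ⊓ (U ⊓ V) ≤ W) h, ht, map_zero] at h3
  have h4 : resO X (inf_le_right : W ⊓ (U ⊓ V) ≤ U ⊓ V) c = 0 := by
    refine (he _ (inf_le_right.trans inf_le_right)).1 ?_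
    show _ • _ = (0 : Γ(X, W ⊓ (U ⊓ V))) • _
    rw [zero_smul]; exact h3
  have h5 : c = 0 := map_injective_of_isIntegral X (homOfLE (inf_le_right : W ⊓ (U ⊓ V) ≤ U ⊓ V))
    (h4.trans (map_zero _).symm)
  rw [← h2, h5, zero_smul, map_zero]

theorem frames_pw (hL : PicF.IsInvertible L) (n : ℕ) (x : X) :
    ∃ (V : X.Opens) (e : Γ(CohB1.tensorPow L n, V)), x ∈ V ∧ TMul.IsGen e := by
  obtain ⟨V, e, hx, he⟩ := TMul.exists_isGen hL x
  exact ⟨V, TMul.pw e n, hx, TMul.isGen_pw he n⟩

/-- Coefficient comparison in a frame. -/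
theorem eq_of_smul_eq {M : X.Modules} {U : X.Opens} {e : Γ(M, U)} (he : TMul.IsGen e) {a b : Γ(X, U)}
    (h : a • e = b • e) : a = b :=
  (isGen_self he).1 h

variable {N : ℕ} {s : Coh.structureModule X ⟶ CohB1.tensorPow L N} {π : Y ⟶ X}

/-- The preimage of a nonempty open under the normalised cover is dense. -/
theorem dense_preimage [IsIntegral X] (hL : PicF.IsInvertible L) {I : X.IdealSheafData}
    (hs : CycCov.IsZeroDiv (CohB1.tensorPow L N) s I) (hN : 0 < N) (R : CycCov.Root L N s π)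
    (hR : CycCov.IsCover R) {U : X.Opens} (hU : (U : Set X).Nonempty) :
    Dense ((π ⁻¹ᵁ U : Y.Opens) : Set Y) := by
  rw [dense_iff_inter_open]
  intro O hO ⟨y, hy⟩
  obtain ⟨V, e, g, hyV, -, he, hg, -⟩ := exists_chart hL hs (O := ⊤) (x := π y) trivial
  obtain ⟨-, hgS, -⟩ := chart_facts R hR hN V ⟨_, hyV⟩ e he g hg
  obtain ⟨hfin, hYn, -⟩ := id hR
  haveI := hfin
  haveI : IsReduced Y := by
    haveI : ∀ y : Y, _root_.IsReduced (Y.presheaf.stalk y) := fun y => by
      haveI := (hYn y).1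
      infer_instance
    exact isReduced_of_isReduced_stalk Y
  obtain ⟨t, htO, hyt⟩ := (V.2.preimage π).exists_basicOpen_le (V := ⟨O, hO⟩) ⟨y, hy⟩ hyV
  obtain ⟨z, hzU, hzV⟩ := nonempty_preirreducible_inter U.2 V.1.2 hU ⟨_, hyV⟩
  obtain ⟨b, hbU, hzb⟩ := V.2.exists_basicOpen_le (V := U) ⟨z, hzU⟩ hzV
  by_contra hne
  rw [Set.not_nonempty_iff_eq_empty] at hne
  have h1 : Y.basicOpen ((π.app V.1).hom b * t) = ⊥ := by
    rw [eq_bot_iff, Scheme.basicOpen_mul, ← Scheme.preimage_basicOpen]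
    rintro y' ⟨h', h''⟩
    exact (Set.eq_empty_iff_forall_notMem.1 hne y' ⟨htO h'', hbU h'⟩).elim
  rw [basicOpen_eq_bot_iff] at h1
  have hb0 : b ≠ 0 := by
    rintro rfl
    rw [Scheme.basicOpen_zero] at hzb
    exact hzb
  rw [hgS b hb0 t (by rwa [chart_of]), Scheme.basicOpen_zero] at hyt
  exact hyt

/-- Irreducibility of the cover read on an affine chart. -/
theorem irreducibleSpace_iff_isDomain [IsReduced Y] {O : Y.Opens} (hO : IsAffineOpen O) (hne : (O : Set Y).Nonempty)
    (hd : Dense (O : Set Y)) : IrreducibleSpace Y ↔ IsDomain Γ(Y, O) := by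
  constructor
  · intro h
    haveI : IsIntegral Y := (isIntegral_iff_irreducibleSpace_and_isReduced Y).2 ⟨h, inferInstance⟩
    haveI : Nonempty O := hne.to_subtype
    exact IsIntegral.component_integral O
  · intro h
    have h1 : IsIrreducible (O : Set Y) := by
      rw [← hO.range_fromSpec, ← Set.image_univ]
      exact (IrreducibleSpace.isIrreducible_univ (PrimeSpectrum Γ(Y, O))).image _ hO.fromSpec.continuous.continuousOn
    have h2 := h1.closure
    rw [hd.closure_eq] at h2
    exact (irreducibleSpace_def Y).2 h2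

end Groth.Agent.CycNorm
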