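import Groth.Agent.EtaNoether.Etale

/-! Coordinates on a root cover at a branch point. -/

set_option autoImplicit false
set_option linter.style.haveILetI false
set_option maxHeartbeats 1000000
set_option synthInstance.maxHeartbeats 200000

universe u

open KaehlerDifferential TensorProduct

noncomputable section

namespace Groth.Agent.CycNorm

variable {k : Type u} [Field k] {B S : Type u} [CommRing B] [CommRing S] [Algebra k B] [Algebra k S]
  [Algebra B S] [IsScalarTower k B S] {n : ℕ}

/-- Replacing the coordinate along the branch by the uniformiser gives coordinates near the branch. -/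
theorem exists_root_coords [Algebra.Smooth k S] (w : Fin n → B)
    (hw : (MvPolynomial.aeval w : MvPolynomial (Fin n) k →ₐ[k] B).toRingHom.Etale) (c : Fin n)
    (ϖ w' : S) (hw' : IsUnit w') (N' : ℕ) (hN' : 0 < N') (hϖ : ϖ ^ N' = w' * algebraMap B S (w c))
    (v : S) (d : ℕ) (hv : IsUnit v) (hd : IsUnit (d : B)) (hvd : ∃ b, v ^ d = algebraMap B S b)
    (hgen : ∀ s, ∃ P : Polynomial B, ϖ ∣ s - P.eval₂ (algebraMap B S) v)
    (h : S) (hh : ∀ s, h * s = 0 → s = 0) [Algebra.Etale B (Localization.Away h)] :
    ∃ r : S, r - 1 ∈ Ideal.span ({ϖ} : Set S) ∧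
      ∀ (T : Type u) [CommRing T] [Algebra S T] [Algebra k T] [IsScalarTower k S T] [IsLocalization.Away r T],
        (MvPolynomial.aeval (fun i => algebraMap S T (Function.update (fun i => algebraMap B S (w i)) c ϖ i)) :
          MvPolynomial (Fin n) k →ₐ[k] T).toRingHom.Etale := by
  classical
  set Z : Fin n → S := Function.update (fun i => algebraMap B S (w i)) c ϖ
  obtain ⟨_, _, hbB⟩ := EtaNoether.lin_bijective_of_etale w hw
  let I : Ideal S := Ideal.span {ϖ}
  let Nn : Submodule S Ω[S⁄k] := Submodule.span S (Set.range fun i => D k S (Z i))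
  let M' : Submodule S Ω[S⁄k] := Nn ⊔ I • ⊤
  have hDϖ : D k S ϖ ∈ M' := Submodule.mem_sup_left (Submodule.subset_span ⟨c, by simp [Z]⟩)
  have hmul : ∀ t, D k S (ϖ * t) ∈ M' := fun t => by
    rw [Derivation.leibniz]
    exact M'.add_mem (Submodule.mem_sup_right (Submodule.smul_mem_smul (Ideal.mem_span_singleton_self ϖ) trivial))
      (M'.smul_mem t hDϖ)
  have hwi : ∀ i, D k S (algebraMap B S (w i)) ∈ M' := fun i => by
    by_cases hic : i = c
    · subst hic
      obtain ⟨u, hu⟩ := hw'
      have : algebraMap B S (w i) = ϖ * ((↑u⁻¹ : S) * ϖ ^ (N' - 1)) := by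
        rw [← mul_left_comm, ← pow_succ', Nat.sub_add_cancel hN', hϖ, ← hu, ← mul_assoc, Units.inv_mul, one_mul]
      rw [this]; exact hmul _
    · exact Submodule.mem_sup_left (Submodule.subset_span ⟨i, by simp [Z, hic]⟩)
  have hB : ∀ b : B, D k S (algebraMap B S b) ∈ M' := fun b => by
    obtain ⟨a, ha⟩ := hbB.2 (D k B b)
    have h2 := congrArg (KaehlerDifferential.map k k B S) ha
    rw [map_D] at h2
    rw [← h2, EtaNoether.lin, Fintype.linearCombination_apply, map_sum]
    refine M'.sum_mem fun i _ => ?_
    rw [map_smul, map_D, ← algebraMap_smul S (a i)]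
    exact M'.smul_mem _ (hwi i)
  have hDv : D k S v ∈ M' := by
    obtain ⟨b, hb⟩ := hvd
    have h2 := hB b
    rw [← hb, Derivation.leibniz_pow, ← Nat.cast_smul_eq_nsmul S, smul_smul] at h2
    obtain ⟨u, hu⟩ : IsUnit ((d : S) * v ^ (d - 1)) := by
      refine IsUnit.mul ?_ (hv.pow _)
      rw [← map_natCast (algebraMap B S)]; exact hd.map _
    rw [← hu] at h2
    have h3 := M'.smul_mem (↑u⁻¹ : S) h2
    rwa [smul_smul, Units.inv_mul, one_smul] at h3
  have hall : ∀ s : S, D k S s ∈ M' := fun s => by
    obtain ⟨P, t, ht⟩ := hgen s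
    rw [sub_eq_iff_eq_add] at ht
    rw [ht, map_add]
    refine M'.add_mem (hmul t) ?_
    clear ht
    induction P using Polynomial.induction_on' with
    | add P Q hP hQ => rw [Polynomial.eval₂_add, map_add]; exact M'.add_mem hP hQ
    | monomial j b =>
      rw [Polynomial.eval₂_monomial, Derivation.leibniz]
      refine M'.add_mem (M'.smul_mem _ ?_) (M'.smul_mem _ (hB b))
      rw [Derivation.leibniz_pow, ← Nat.cast_smul_eq_nsmul S, smul_smul]
      exact M'.smul_mem _ hDv
  have htop : (⊤ : Submodule S (Ω[S⁄k] ⧸ Nn)) ≤ I • ⊤ := by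
    have hM' : M' = ⊤ := by
      rw [eq_top_iff, ← span_range_derivation k S, Submodule.span_le]
      rintro _ ⟨s, rfl⟩
      exact hall s
    have h2 : (Nn ⊔ I • ⊤).map Nn.mkQ = ⊤ := by
      rw [show Nn ⊔ I • ⊤ = ⊤ from hM', Submodule.map_top, Submodule.range_mkQ]
    rw [Submodule.map_sup, Submodule.mkQ_map_self, bot_sup_eq, Submodule.map_smul'', Submodule.map_top,
      Submodule.range_mkQ] at h2
    exact h2.ge
  obtain ⟨r, hr, hr0⟩ := Submodule.exists_sub_one_mem_and_smul_eq_zero_of_fg_of_le_smul I ⊤
    (Module.Finite.fg_top) htop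
  have h1 : ∀ s, r • D k S s ∈ Nn := fun s => by
    rw [← Submodule.Quotient.mk_eq_zero, Submodule.Quotient.mk_smul]
    exact hr0 _ trivial
  -- surjectivity on any étale algebra where `r` is a unit
  have hsurj : ∀ (A : Type u) [CommRing A] [Algebra S A] [Algebra k A] [IsScalarTower k S A]
      [Algebra.FormallyEtale S A], IsUnit (algebraMap S A r) →
      Function.Surjective (EtaNoether.lin k fun i => algebraMap S A (Z i)) := by
    intro A _ _ _ _ _ hru y
    obtain ⟨z, rfl⟩ := (tensorKaehlerEquivOfFormallyEtale k S A).surjective y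
    rw [← LinearMap.mem_range]
    induction z using TensorProduct.induction_on with
    | zero => rw [map_zero]; exact Submodule.zero_mem _
    | add x y hx hy => rw [map_add]; exact Submodule.add_mem _ hx hy
    | tmul a ω =>
      show mapBaseChange k S A (a ⊗ₜ ω) ∈ _
      rw [mapBaseChange_tmul]
      refine Submodule.smul_mem _ a ?_
      have hω : r • ω ∈ Nn := by
        have : ω ∈ (⊤ : Submodule S Ω[S⁄k]) := trivial
        rw [← span_range_derivation k S] at this
        induction this using Submodule.span_induction with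
        | mem x hx => obtain ⟨s, rfl⟩ := hx; exact h1 s
        | zero => rw [smul_zero]; exact zero_mem _
        | add x y _ _ hx hy => rw [smul_add]; exact add_mem hx hy
        | smul a x _ hx => rw [smul_comm]; exact Nn.smul_mem a hx
      have h2 : ∀ x ∈ Nn, KaehlerDifferential.map k k S A x ∈
          LinearMap.range (EtaNoether.lin k fun i => algebraMap S A (Z i)) := by
        intro x hx
        induction hx using Submodule.span_induction with
        | mem x hx =>
          obtain ⟨i, rfl⟩ := hx
          refine ⟨Pi.single i 1, ?_⟩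
          simp [EtaNoether.lin, Fintype.linearCombination_apply, Pi.single_apply]
        | zero => rw [map_zero]; exact Submodule.zero_mem _
        | add x y _ _ hx hy => rw [map_add]; exact Submodule.add_mem _ hx hy
        | smul a x _ hx => rw [map_smul, ← algebraMap_smul A a]; exact Submodule.smul_mem _ _ hx
      have h3 := h2 _ hω
      rw [map_smul, ← algebraMap_smul A r] at h3
      obtain ⟨u, hu⟩ := hru
      rw [← hu] at h3
      have h4 := Submodule.smul_mem _ (↑u⁻¹ : A) h3
      rwa [smul_smul, Units.inv_mul, one_smul] at h4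
  refine ⟨r, hr, fun T _ _ _ _ _ => ?_⟩
  have hru : IsUnit (algebraMap S T r) := IsLocalization.Away.algebraMap_isUnit r
  haveI : Algebra.Etale S T := Algebra.Etale.of_isLocalizationAway r
  haveI : Algebra.Smooth S T := inferInstance
  haveI : Algebra.Smooth k T := Algebra.Smooth.comp k S T
  haveI : Algebra.FinitePresentation k T := inferInstance
  refine EtaNoether.etale_of_lin_bijective _ ⟨?_, hsurj T hru⟩
  -- injectivity
  let Sh := Localization.Away h
  let T' := Localization.Away (algebraMap S Sh r)
  haveI : Algebra.Etale Sh T' := Algebra.Etale.of_isLocalizationAway (algebraMap S Sh r)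
  haveI : Algebra.Etale B T' := Algebra.Etale.comp B Sh T'
  have hT'r : IsUnit (algebraMap S T' r) := by
    rw [IsScalarTower.algebraMap_apply S Sh T']
    exact IsLocalization.Away.algebraMap_isUnit _
  let φ : T →+* T' := IsLocalization.Away.lift r hT'r
  have hφ : ∀ s, φ (algebraMap S T s) = algebraMap S T' s := IsLocalization.Away.lift_eq r hT'r
  have hφinj : Function.Injective φ := by
    rw [injective_iff_map_eq_zero]
    intro x hx
    obtain ⟨m, a, ha⟩ := IsLocalization.Away.surj r x
    have h1 : algebraMap Sh T' (algebraMap S Sh a) = 0 := by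
      rw [← IsScalarTower.algebraMap_apply, ← hφ, ← ha, map_mul, hx, zero_mul]
    obtain ⟨⟨_, i, rfl⟩, hi⟩ := (IsLocalization.map_eq_zero_iff (Submonoid.powers (algebraMap S Sh r)) T' _).1 h1
    dsimp only at hi
    rw [← map_pow, ← map_mul] at hi
    obtain ⟨⟨_, j, rfl⟩, hj⟩ := (IsLocalization.map_eq_zero_iff (Submonoid.powers h) Sh _).1 hi
    have hra : r ^ i * a = 0 := by
      clear hi
      induction j with
      | zero => simpa using hj
      | succ j ih =>
        refine ih (hh _ ?_)
        simpa [pow_succ', mul_assoc] using hj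
    have h2 : (algebraMap S T r) ^ i * algebraMap S T a = 0 := by rw [← map_pow, ← map_mul, hra, map_zero]
    rw [(hru.pow i).mul_right_eq_zero.1 h2] at ha
    exact (hru.pow m).mul_left_eq_zero.1 ha
  letI : Algebra T T' := φ.toAlgebra
  haveI : IsScalarTower S T T' := IsScalarTower.of_algebraMap_eq fun s => (hφ s).symm
  haveI : IsScalarTower k T T' := IsScalarTower.of_algebraMap_eq fun a => by
    rw [IsScalarTower.algebraMap_apply k S T', IsScalarTower.algebraMap_apply k S T]
    exact (hφ _).symm
  let w₁ : Fin n → T' := fun i => algebraMap B T' (w i)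
  let Z₁ : Fin n → T' := fun i => algebraMap S T' (Z i)
  have hw₁ : (MvPolynomial.aeval w₁ : MvPolynomial (Fin n) k →ₐ[k] T').toRingHom.Etale := by
    have h1 : (MvPolynomial.aeval w₁ : MvPolynomial (Fin n) k →ₐ[k] T').toRingHom =
        (algebraMap B T').comp (MvPolynomial.aeval w : MvPolynomial (Fin n) k →ₐ[k] B).toRingHom :=
      RingHom.ext fun p => (MvPolynomial.aeval_algebraMap_apply T' w p).symm ▸ rfl
    rw [h1]
    exact RingHom.Etale.stableUnderComposition _ _ hw (RingHom.etale_algebraMap.mpr ‹_›)
  obtain ⟨_, _, hb₁⟩ := EtaNoether.lin_bijective_of_etale w₁ hw₁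
  haveI : Algebra.Etale S Sh := Algebra.Etale.of_isLocalizationAway h
  haveI : Algebra.Etale S T' := Algebra.Etale.comp S Sh T'
  let e₁ := LinearEquiv.ofBijective (EtaNoether.lin k w₁) hb₁
  have hinj : Function.Injective (EtaNoether.lin k Z₁) := by
    have hE : Function.Surjective (e₁.symm.toLinearMap.comp (EtaNoether.lin k Z₁)) :=
      e₁.symm.surjective.comp (hsurj T' hT'r)
    have hi := OrzechProperty.injective_of_surjective_endomorphism _ hE
    intro a a' h
    exact hi (congrArg e₁.symm h)
  have hcomm : ∀ a : Fin n → T, EtaNoether.lin k Z₁ (fun i => φ (a i)) =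
      KaehlerDifferential.map k k T T' (EtaNoether.lin k (fun i => algebraMap S T (Z i)) a) := fun a => by
    rw [EtaNoether.lin, Fintype.linearCombination_apply, EtaNoether.lin, Fintype.linearCombination_apply, map_sum]
    refine Finset.sum_congr rfl fun i _ => ?_
    rw [map_smul, map_D, ← IsScalarTower.algebraMap_apply S T T', ← algebraMap_smul T' (a i)]
    rfl
  intro a a' haa
  have h4 := congrArg (KaehlerDifferential.map k k T T') haa
  rw [← hcomm, ← hcomm] at h4
  exact funext fun i => hφinj (congrFun (hinj h4) i)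

end Groth.Agent.CycNorm
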