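import Groth.Agent.CycNorm.Smooth
import Groth.Agent.CycNorm.Ideal
import Groth.Agent.CycNorm.NCDRing
import Groth.Agent.EtChart.Basic

/-! Coordinates on the normalised cover along a non-singular branch divisor. -/

set_option autoImplicit false
set_option backward.isDefEq.respectTransparency false
set_option linter.style.haveILetI false
set_option maxHeartbeats 1000000
set_option synthInstance.maxHeartbeats 200000

universe u

open CategoryTheory AlgebraicGeometry TopologicalSpace Opposite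

noncomputable section

namespace Groth.Agent.CycNorm

variable {k : Type u} [Field k] {X Y : Scheme.{u}}

theorem etale_eval_ulift {n : ℕ} {A : Type u} [CommRing A] (ι₀ : k →+* A) (z : ULift.{u} (Fin n) → A) :
    (MvPolynomial.eval₂Hom ι₀ z).Etale ↔
      (letI := ι₀.toAlgebra; (MvPolynomial.aeval (fun i => z ⟨i⟩) : MvPolynomial (Fin n) k →ₐ[k] A).toRingHom.Etale) := by
  letI := ι₀.toAlgebra
  let e : MvPolynomial (ULift.{u} (Fin n)) k ≃ₐ[k] MvPolynomial (Fin n) k := MvPolynomial.renameEquiv k Equiv.ulift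
  have h1 : MvPolynomial.eval₂Hom ι₀ z =
      (MvPolynomial.aeval (fun i => z ⟨i⟩) : MvPolynomial (Fin n) k →ₐ[k] A).toRingHom.comp e.toRingEquiv.toRingHom :=
    MvPolynomial.ringHom_ext (fun r => by simp [e, RingHom.algebraMap_toAlgebra]) (fun j => by simp [e])
  constructor
  · intro h
    have h2 : (MvPolynomial.aeval (fun i => z ⟨i⟩) : MvPolynomial (Fin n) k →ₐ[k] A).toRingHom =
        (MvPolynomial.eval₂Hom ι₀ z).comp e.symm.toRingEquiv.toRingHom := by
      rw [h1, RingHom.comp_assoc]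
      refine RingHom.ext fun p => ?_
      simp
    rw [h2]
    exact RingHom.Etale.stableUnderComposition _ _ (RingHom.Etale.of_bijective e.symm.bijective) h
  · intro h
    rw [h1]
    exact RingHom.Etale.stableUnderComposition _ _ (RingHom.Etale.of_bijective e.bijective) h

theorem cst_res (f : X ⟶ Spec (CommRingCat.of k)) {U V : X.Opens} (h : V ≤ U) :
    (X.presheaf.map (homOfLE h).op).hom.comp (cst f U) = cst f V := by
  refine RingHom.ext fun r => ?_
  show (X.presheaf.map (homOfLE h).op).hom ((f.appLE ⊤ U (by simp)).hom _) = (f.appLE ⊤ V (by simp)).hom _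
  rw [← CommRingCat.comp_apply, Scheme.Hom.appLE_map]

theorem cst_comp (f : X ⟶ Spec (CommRingCat.of k)) (π : Y ⟶ X) (U : X.Opens) :
    (π.app U).hom.comp (cst f U) = cst (π ≫ f) (π ⁻¹ᵁ U) := by
  refine RingHom.ext fun r => ?_
  show (π.app U).hom ((f.appLE ⊤ U (by simp)).hom _) = ((π ≫ f).appLE ⊤ (π ⁻¹ᵁ U) (by simp)).hom _
  rw [← CommRingCat.comp_apply, Scheme.Hom.app_eq_appLE, Scheme.Hom.appLE_comp_appLE]

/-- Coordinates on an affine open from an étale map of rings. -/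
theorem etale_vector (g : Y ⟶ Spec (CommRingCat.of k)) {W : Y.Opens} (hW : IsAffineOpen W) {n : ℕ}
    (z : ULift.{u} (Fin n) → Γ(Y, W)) (h : (MvPolynomial.eval₂Hom (cst g W) z).Etale) :
    Etale (AffineSpace.homOfVector (W.ι ≫ g) (fun i => W.topIso.inv (z i))) := by
  haveI : IsAffine W.toScheme := hW
  apply EtChart.etale_homOfVector_of_isAffine
  let a := (Scheme.ΓSpecIso (CommRingCat.of k))
  have ha : Function.Bijective a.hom.hom := ConcreteCategory.bijective_of_isIso a.hom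
  have hb : Function.Bijective W.topIso.inv.hom := ConcreteCategory.bijective_of_isIso W.topIso.inv
  have h1 : MvPolynomial.eval₂Hom (W.ι ≫ g).appTop.hom (fun i => W.topIso.inv (z i)) =
      W.topIso.inv.hom.comp ((MvPolynomial.eval₂Hom (cst g W) z).comp (MvPolynomial.map a.hom.hom)) := by
    refine MvPolynomial.ringHom_ext (fun r => ?_) fun i => ?_
    · simp only [MvPolynomial.eval₂Hom_C, RingHom.comp_apply, MvPolynomial.map_C]
      show _ = W.topIso.inv.hom ((g.appLE ⊤ W (by simp)).hom ((Scheme.ΓSpecIso (CommRingCat.of k)).inv (a.hom r)))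
      rw [show (Scheme.ΓSpecIso (CommRingCat.of k)).inv (a.hom r) = r from Iso.hom_inv_id_apply a r,
        Scheme.Hom.comp_appTop, ← CommRingCat.comp_apply]
      congr 1
      simp [Scheme.Hom.appLE, Scheme.Hom.appTop, Scheme.Opens.topIso]
      rw [← CommRingCat.hom_comp (Y.presheaf.map _) (Y.presheaf.map _), ← Functor.map_comp]
      rfl
    · simp
  rw [h1]
  exact RingHom.Etale.stableUnderComposition _ _ (RingHom.Etale.stableUnderComposition _ _
    (RingHom.Etale.of_bijective ⟨MvPolynomial.map_injective _ ha.1, MvPolynomial.map_surjective _ ha.2⟩) h)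
    (RingHom.Etale.of_bijective hb)

theorem isRadical_span_coord {n : ℕ} {A : Type u} [CommRing A] (ι₀ : k →+* A) (z : ULift.{u} (Fin n) → A)
    (h : (MvPolynomial.eval₂Hom ι₀ z).Etale) (i : ULift.{u} (Fin n)) : (Ideal.span {z i}).IsRadical := by
  letI := ι₀.toAlgebra
  haveI : IsRegularRing (A ⧸ Ideal.span {z i}) := regular_quot_coordinate k A z h i
  refine (Ideal.isRadical_iff_quotient_reduced _).2 (isReduced_ofLocalizationMaximal _ fun Q _ => ?_)
  haveI := (normal_of_regular Q).1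
  infer_instance

/-- Radical of a principal ideal with a root. -/
theorem radical_span_of_pow {A : Type u} [CommRing A] {z a u : A} (hu : IsUnit u) {m : ℕ} (hm : 0 < m)
    (h : z ^ m = u * a) (hz : (Ideal.span {z}).IsRadical) : (Ideal.span {a}).radical = Ideal.span {z} := by
  rw [← Ideal.span_singleton_mul_left_unit hu a, ← h, ← Ideal.span_singleton_pow, Ideal.radical_pow _ hm.ne',
    hz.radical]

/-- Coordinates near a point of the cover, roots of the coordinates downstairs up to units. -/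
theorem exists_cover_coords (f : X ⟶ Spec (CommRingCat.of k)) [Smooth f] [IsIntegral X] [PerfectField k]
    {L : X.Modules} (hL : PicF.IsInvertible L) {N : ℕ} (hN : 0 < N) (hNk : (N : k) ≠ 0)
    {r : ℕ} (D : Fin r → X.IdealSheafData) (α : Fin r → ℕ) (hD : LogNCD.IsNCD D f)
    {s : Coh.structureModule X ⟶ CohB1.tensorPow L N}
    (hs : CycCov.IsZeroDiv (CohB1.tensorPow L N) s (CycCov.divIdeal D α))
    {π : Y ⟶ X} [IsAffineHom π] (R : CycCov.Root L N s π) (hR : CycCov.IsCover R) (y : Y)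
    (hdisj : ∀ j j', 0 < α j → 0 < α j' → π y ∈ (D j).support → π y ∈ (D j').support → j = j')
    {O : X.Opens} (hO : π y ∈ O) {n : ℕ} (w : ∀ (U : X.Opens), U ≤ O → ULift.{u} (Fin n) → Γ(X, U))
    (hw : ∀ (U : X.affineOpens) (h : U.1 ≤ O), (MvPolynomial.eval₂Hom (cst f U.1) (w U.1 h)).Etale)
    (c : ∀ j, π y ∈ (D j).support → ULift.{u} (Fin n))
    (hc : ∀ j (hj : π y ∈ (D j).support) (U : X.affineOpens) (h : U.1 ≤ O),
      (D j).ideal U = Ideal.span {w U.1 h (c j hj)}) :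
    ∃ (U : X.affineOpens) (hU : U.1 ≤ O) (W : Y.affineOpens) (hW : W.1 ≤ π ⁻¹ᵁ U.1)
      (z : ULift.{u} (Fin n) → Γ(Y, W.1)), y ∈ W.1 ∧
      (MvPolynomial.eval₂Hom (cst (π ≫ f) W.1) z).Etale ∧
      ∀ i, ∃ (m : ℕ) (a : Γ(Y, W.1)), 0 < m ∧ IsUnit a ∧
        z i ^ m = a * (Y.presheaf.map (homOfLE hW).op).hom ((π.app U.1).hom (w U.1 hU i)) := by
  classical
  obtain ⟨U, hxU, hUO, hreg, ⟨e, g, he, hg, hI⟩, hj⟩ := exists_branch_chart f hL hN hNk D α hD hs R hR
    (fun j => 0 < α j) (fun _ h => h) hO hdisj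
  let P : Y.affineOpens := ⟨π ⁻¹ᵁ U.1, U.2.preimage π⟩
  let S := Γ(Y, π ⁻¹ᵁ U.1)
  letI : Algebra k Γ(X, U.1) := (cst f U.1).toAlgebra
  letI : Algebra Γ(X, U.1) S := (π.app U.1).hom.toAlgebra
  letI : Algebra k S := (cst (π ≫ f) (π ⁻¹ᵁ U.1)).toAlgebra
  haveI : IsScalarTower k Γ(X, U.1) S :=
    IsScalarTower.of_algebraMap_eq fun a => (DFunLike.congr_fun (cst_comp f π U.1) a).symm
  haveI : Algebra.Smooth k Γ(X, U.1) := smooth_cst f U.2
  have hwE := (etale_eval_ulift (cst f U.1) (w U.1 hUO)).1 (hw U hUO)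
  by_cases hex : ∃ j, 0 < α j ∧ π y ∈ (D j).support
  swap
  · simp only [not_exists, not_and] at hex
    refine ⟨U, hUO, P, le_rfl, fun i => (π.app U.1).hom (w U.1 hUO i), hxU, ?_, fun i => ⟨1, 1, one_pos, isUnit_one, ?_⟩⟩
    · have hgu : IsUnit g := by
        rw [← Ideal.span_singleton_eq_top, hI, CycCov.divIdeal, ideal_prod]
        refine Finset.prod_induction _ (fun I => I = ⊤) (fun I J hI' hJ' => by rw [hI', hJ', Ideal.top_mul])
          Ideal.one_eq_top fun j _ => ?_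
        rw [Scheme.IdealSheafData.ideal_pow, Pi.pow_apply]
        rcases Nat.eq_zero_or_pos (α j) with h0 | h0
        · rw [h0, pow_zero, Ideal.one_eq_top]
        · rcases hj j h0 with ⟨-, ht⟩ | ⟨hx, -⟩
          · rw [ht, Ideal.top_pow]
          · exact absurd hx (hex j h0)
      have h1 : MvPolynomial.eval₂Hom (cst (π ≫ f) (π ⁻¹ᵁ U.1)) (fun i => (π.app U.1).hom (w U.1 hUO i)) =
          (π.app U.1).hom.comp (MvPolynomial.eval₂Hom (cst f U.1) (w U.1 hUO)) :=
        MvPolynomial.ringHom_ext (fun r => by simp [← cst_comp]) (fun j => by simp)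
      rw [h1]
      exact RingHom.Etale.stableUnderComposition _ _ (hw U hUO)
        (etale_app f hN hNk R hR U ⟨_, hxU⟩ e he g hg hgu)
    · simp [P]
  obtain ⟨j₀, hα₀, hx₀⟩ := hex
  rcases hj j₀ hα₀ with ⟨hn, -⟩ | ⟨-, f₁, ϖ, w', hf₁, hw', hϖ, -, hdiv, v, d, hv, hd, hvd, hgen⟩
  · exact absurd hx₀ hn
  haveI : Nonempty U.1 := ⟨⟨_, hxU⟩⟩
  haveI : IsDomain Γ(X, U.1) := IsIntegral.component_integral U.1
  obtain ⟨a, ha⟩ := Ideal.span_singleton_eq_span_singleton.1 (hf₁.symm.trans (hc j₀ hx₀ U hUO))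
  set c₀ := c j₀ hx₀
  set N' := N / Nat.gcd (α j₀) N
  have hN' : 0 < N' := Nat.div_pos (Nat.le_of_dvd hN (Nat.gcd_dvd_right _ _)) (Nat.gcd_pos_of_pos_right _ hN)
  let wF : Fin n → Γ(X, U.1) := fun i => w U.1 hUO ⟨i⟩
  have hϖ' : ϖ ^ N' = (w' * (π.app U.1).hom (↑a⁻¹ : Γ(X, U.1))) * (π.app U.1).hom (wF c₀.down) := by
    rw [hϖ, show wF c₀.down = f₁ * a from ha.symm, mul_assoc w', ← map_mul]
    congr 2
    rw [mul_comm f₁, Units.inv_mul_cancel_left]
  obtain ⟨hint, hgS, hker, g₀, hg₀, -⟩ := chart_facts R hR hN U ⟨_, hxU⟩ e he g hg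
  -- away from the branch the cover is étale
  let U' : X.affineOpens := ⟨X.basicOpen f₁, U.2.basicOpen f₁⟩
  have hU' : U'.1 ≤ U.1 := X.basicOpen_le f₁
  let ψ : S →+* Γ(Y, π ⁻¹ᵁ U'.1) := (Y.presheaf.map (homOfLE (π.preimage_mono hU')).op).hom
  letI : Algebra S Γ(Y, π ⁻¹ᵁ U'.1) := ψ.toAlgebra
  haveI : IsLocalization.Away ((π.app U.1).hom f₁) Γ(Y, π ⁻¹ᵁ U'.1) :=
    (U.2.preimage π).isLocalization_of_eq_basicOpen ((π.app U.1).hom f₁) (homOfLE (π.preimage_mono hU'))
      (Scheme.preimage_basicOpen π f₁)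
  have hf₁0 : f₁ ≠ 0 := by
    intro h0
    rw [h0] at ha
    have hne := hw U hUO
    letI : Algebra (MvPolynomial (ULift.{u} (Fin n)) k) Γ(X, U.1) :=
      (MvPolynomial.eval₂Hom (cst f U.1) (w U.1 hUO)).toAlgebra
    haveI : Algebra.Etale (MvPolynomial (ULift.{u} (Fin n)) k) Γ(X, U.1) := hne
    haveI : Module.Flat (MvPolynomial (ULift.{u} (Fin n)) k) Γ(X, U.1) := Algebra.Smooth.flat _ _
    have hX := IsSMulRegular.of_flat (S := Γ(X, U.1))
      (IsSMulRegular.of_ne_zero (MvPolynomial.X_ne_zero (R := k) c₀))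
    refine zero_ne_one (α := Γ(X, U.1)) (hX ?_)
    show algebraMap (MvPolynomial (ULift.{u} (Fin n)) k) Γ(X, U.1) (MvPolynomial.X c₀) * 0 =
      algebraMap (MvPolynomial (ULift.{u} (Fin n)) k) Γ(X, U.1) (MvPolynomial.X c₀) * 1
    rw [RingHom.algebraMap_toAlgebra, MvPolynomial.eval₂Hom_X', ← ha, zero_mul, zero_mul, zero_mul]
  haveI : Algebra.Etale Γ(X, U.1) (Localization.Away ((π.app U.1).hom f₁)) := by
    have hg' : IsUnit (QC.resO X hU' g) := by
      obtain ⟨u, hu⟩ := Ideal.span_singleton_eq_span_singleton.1 (hdiv.symm.trans hI.symm)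
      rw [← hu, map_mul, map_pow]
      exact ((X.toRingedSpace.isUnit_res_basicOpen f₁).pow _).mul (u.isUnit.map _)
    have hne : (U'.1 : Set X).Nonempty := by
      rw [Set.nonempty_iff_ne_empty]
      intro h
      exact hf₁0 (eq_zero_of_basicOpen_eq_bot f₁ (Opens.ext h))
    have h1 := etale_app f hN hNk R hR U' hne _ (he.res hU') _ (val_eq_res hU' hg) hg'
    have h2 : (X.presheaf.map (homOfLE hU').op).hom.Etale := by
      haveI := U.2.isLocalization_basicOpen f₁
      exact RingHom.etale_algebraMap.mpr (Algebra.Etale.of_isLocalizationAway f₁)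
    have h3 := RingHom.Etale.stableUnderComposition _ _ h2 h1
    rw [show (π.app U'.1).hom.comp (X.presheaf.map (homOfLE hU').op).hom =
      ψ.comp (π.app U.1).hom from congrArg CommRingCat.Hom.hom (π.naturality (homOfLE hU').op)] at h3
    letI : Algebra Γ(X, U.1) Γ(Y, π ⁻¹ᵁ U'.1) := (ψ.comp (π.app U.1).hom).toAlgebra
    haveI : IsScalarTower Γ(X, U.1) S Γ(Y, π ⁻¹ᵁ U'.1) := IsScalarTower.of_algebraMap_eq fun _ => rfl
    haveI : Algebra.Etale Γ(X, U.1) Γ(Y, π ⁻¹ᵁ U'.1) := h3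
    exact Algebra.Etale.of_equiv ((IsLocalization.algEquiv (Submonoid.powers ((π.app U.1).hom f₁))
      Γ(Y, π ⁻¹ᵁ U'.1) (Localization.Away ((π.app U.1).hom f₁))).restrictScalars Γ(X, U.1))
  haveI : Algebra.FiniteType k S := by
    haveI := hR.1
    have h1 : (π.app U.1).hom.Finite := π.finite_app U.1 U.2
    haveI : Algebra.FiniteType k Γ(X, U.1) := inferInstance
    haveI : Algebra.FiniteType Γ(X, U.1) S := h1.finiteType
    exact Algebra.FiniteType.trans (S := Γ(X, U.1)) ‹_› ‹_›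
  haveI : Algebra.Smooth k S := GenBertini.smooth_of_regular k S
  have hh : ∀ t : S, (π.app U.1).hom f₁ * t = 0 → t = 0 := fun t ht =>
    hgS f₁ hf₁0 t (by rwa [chart_of])
  obtain ⟨r₁, hr₁, hco⟩ := exists_root_coords (k := k) wF hwE c₀.down ϖ _
    (hw'.mul ((Units.isUnit a⁻¹).map _)) N' hN' hϖ' v d hv hd hvd hgen ((π.app U.1).hom f₁) hh
  let W : Y.affineOpens := ⟨Y.basicOpen r₁, (U.2.preimage π).basicOpen r₁⟩
  have hW : W.1 ≤ π ⁻¹ᵁ U.1 := Y.basicOpen_le r₁
  have hyS : y ∈ π ⁻¹ᵁ U.1 := hxU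
  have hyW : y ∈ W.1 := by
    rw [Scheme.mem_basicOpen _ r₁ y hyS]
    have hϖy : y ∉ Y.basicOpen ϖ := by
      intro hy
      have h1 : y ∈ Y.basicOpen (ϖ ^ N') := by
        rw [Scheme.mem_basicOpen _ _ y hyS] at hy ⊢
        rw [map_pow]; exact hy.pow _
      rw [hϖ, Scheme.basicOpen_mul, ← Scheme.preimage_basicOpen] at h1
      have h2 : π y ∈ X.zeroLocus ((D j₀).ideal U : Set Γ(X, U.1)) ∩ U.1 := by
        rw [← Scheme.IdealSheafData.coe_support_inter]; exact ⟨hx₀, hxU⟩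
      rw [hf₁] at h2
      exact (Scheme.mem_zeroLocus_iff X _ _).1 h2.1 f₁ (Ideal.mem_span_singleton_self f₁) h1.2
    rw [Scheme.mem_basicOpen _ ϖ y hyS] at hϖy
    obtain ⟨b, hb⟩ := Ideal.mem_span_singleton.1 hr₁
    rw [sub_eq_iff_eq_add] at hb
    rw [hb, map_add, map_mul, map_one]
    by_contra hnu
    have hmem : (Y.presheaf.germ (π ⁻¹ᵁ U.1) y hyS).hom ϖ * (Y.presheaf.germ (π ⁻¹ᵁ U.1) y hyS).hom b ∈
        IsLocalRing.maximalIdeal (Y.presheaf.stalk y) := Ideal.mul_mem_right _ _ hϖy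
    have := (IsLocalRing.maximalIdeal (Y.presheaf.stalk y)).sub_mem hnu hmem
    rw [add_sub_cancel_left] at this
    exact this isUnit_one
  let ρ : S →+* Γ(Y, W.1) := (Y.presheaf.map (homOfLE hW).op).hom
  letI : Algebra S Γ(Y, W.1) := ρ.toAlgebra
  letI : Algebra k Γ(Y, W.1) := (cst (π ≫ f) W.1).toAlgebra
  haveI : IsScalarTower k S Γ(Y, W.1) :=
    IsScalarTower.of_algebraMap_eq fun b => (DFunLike.congr_fun (cst_res (π ≫ f) hW) b).symm
  haveI : IsLocalization.Away r₁ Γ(Y, W.1) := (U.2.preimage π).isLocalization_basicOpen r₁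
  let z : ULift.{u} (Fin n) → Γ(Y, W.1) := fun i =>
    ρ (Function.update (fun i => (π.app U.1).hom (wF i)) c₀.down ϖ i.down)
  refine ⟨U, hUO, W, hW, z, hyW, (etale_eval_ulift (cst (π ≫ f) W.1) z).2 (hco Γ(Y, W.1)), fun i => ?_⟩
  by_cases hi : i = c₀
  · subst hi
    refine ⟨N', _, hN', (hw'.mul ((Units.isUnit a⁻¹).map (π.app U.1).hom)).map ρ, ?_⟩
    simp only [z, Function.update_self]
    rw [← map_pow, hϖ', map_mul]
  · refine ⟨1, 1, one_pos, isUnit_one, ?_⟩
    have hi' : i.down ≠ c₀.down := fun h => hi (ULift.ext _ _ h)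
    simp only [z, Function.update_of_ne hi', pow_one, one_mul]
    rfl

end Groth.Agent.CycNorm
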