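import Groth.Agent.CycNorm.Branch
import Groth.Agent.GenBertini.Basic

/-! Smoothness from regular charts. -/

set_option autoImplicit false
set_option backward.isDefEq.respectTransparency false
set_option linter.style.haveILetI false

universe u

open CategoryTheory AlgebraicGeometry TopologicalSpace Opposite

noncomputable section

namespace Groth.Agent.CycNorm

/-- Smoothness on a preimage from regular affine preimages covering it. -/
theorem smooth_of_regular_charts {k : Type u} [Field k] [PerfectField k] {X Y : Scheme.{u}} (π : Y ⟶ X)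
    [IsAffineHom π] (f : X ⟶ Spec (CommRingCat.of k)) [LocallyOfFiniteType (π ≫ f)] (W : X.Opens)
    (h : ∀ x ∈ W, ∃ U : X.affineOpens, x ∈ U.1 ∧ U.1 ≤ W ∧ IsRegularRing Γ(Y, π ⁻¹ᵁ U.1)) :
    Smooth ((π ⁻¹ᵁ W).ι ≫ π ≫ f) := by
  choose U hxU hUW hreg using h
  let V : W → ((π ⁻¹ᵁ W : Y.Opens) : Scheme.{u}).Opens := fun x =>
    (π ⁻¹ᵁ W).ι ⁻¹ᵁ (π ⁻¹ᵁ (U x.1 x.2).1)
  refine IsZariskiLocalAtSource.of_iSup_eq_top (P := @Smooth) V ?_ fun x => ?_
  · rw [eq_top_iff]
    rintro y -
    exact Opens.mem_iSup.mpr ⟨⟨π y.1, y.2⟩, hxU _ y.2⟩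
  · obtain ⟨x, hx⟩ := x
    let P := π ⁻¹ᵁ (U x hx).1
    have hP : IsAffineOpen P := (U x hx).2.preimage π
    have hrange : Set.range ((V ⟨x, hx⟩).ι ≫ (π ⁻¹ᵁ W).ι) = Set.range P.ι := by
      ext y
      simp only [Scheme.Hom.comp_base, TopCat.coe_comp, Set.range_comp, Scheme.Opens.range_ι]
      constructor
      · rintro ⟨y', hy', rfl⟩; exact hy'
      · intro hy; exact ⟨⟨y, hUW x hx hy⟩, hy, rfl⟩
    have he := IsOpenImmersion.isoOfRangeEq_hom_fac _ _ hrange
    rw [← Category.assoc, ← he, Category.assoc]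
    haveI : Smooth (P.ι ≫ π ≫ f) := by
      rw [← hP.isoSpec_hom_fromSpec, Category.assoc,
        ← (isAffineOpen_top (Spec (CommRingCat.of k))).SpecMap_appLE_fromSpec (π ≫ f) hP (by simp)]
      haveI : Smooth (Spec.map ((π ≫ f).appLE ⊤ P (by simp))) := by
        rw [HasRingHomProperty.Spec_iff (P := @Smooth)]
        have h1 : ((π ≫ f).appLE ⊤ P (by simp)).hom.FiniteType :=
          HasRingHomProperty.appLE @LocallyOfFiniteType (π ≫ f) inferInstance ⟨⊤, isAffineOpen_top _⟩ ⟨P, hP⟩ (by simp)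
        refine (RingHom.Smooth.respectsIso.cancel_left_isIso (Scheme.ΓSpecIso (CommRingCat.of k)).inv
          ((π ≫ f).appLE ⊤ P (by simp))).1 ?_
        let χ : k →+* Γ(Y, P) :=
          ((Scheme.ΓSpecIso (CommRingCat.of k)).inv ≫ (π ≫ f).appLE ⊤ P (by simp)).hom
        letI : Algebra k Γ(Y, P) := χ.toAlgebra
        haveI : Algebra.FiniteType k Γ(Y, P) :=
          RingHom.FiniteType.comp h1 (RingHom.FiniteType.of_surjective _
            (ConcreteCategory.bijective_of_isIso (Scheme.ΓSpecIso (CommRingCat.of k)).inv).2)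
        haveI : IsRegularRing Γ(Y, P) := hreg x hx
        exact GenBertini.smooth_of_regular k Γ(Y, P)
      infer_instance
    infer_instance

end Groth.Agent.CycNorm
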